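import Groth.Agent.Curves2.Ufd.Lattice
import Groth.Agent.Amp73.Gen

/-!
# Invertible modules on opens of the spectrum of a factorial domain are trivial

No Noetherian hypothesis: only finitely many primes divide the equation of a basic open where the
module is already framed.
-/

set_option autoImplicit false
set_option linter.style.haveILetI false

universe u

open CategoryTheory AlgebraicGeometry TopologicalSpace
open Groth.Agent.Var76.LineBundle

noncomputable section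

namespace Groth.Agent.Curves2.Ufd

variable {X : Scheme.{u}} {W : X.Opens} (hW : IsAffineOpen W)

include hW in
theorem fromSpec_mem (q : PrimeSpectrum Γ(X, W)) : hW.fromSpec q ∈ W :=
  hW.range_fromSpec.le ⟨q, rfl⟩

include hW in
theorem isUnit_germ_iff (q : PrimeSpectrum Γ(X, W)) (b : Γ(X, W)) :
    IsUnit (X.presheaf.germ W (hW.fromSpec q) (fromSpec_mem hW q) b) ↔ b ∉ q.asIdeal := by
  rw [← X.mem_basicOpen b (hW.fromSpec q) (fromSpec_mem hW q)]
  exact Iff.of_eq (congrArg (q ∈ ·) (hW.fromSpec_preimage_basicOpen b))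

variable [IsDomain Γ(X, W)]

/-- The function field as an algebra over the sections. -/
@[implicit_reducible]
def algKη : Algebra Γ(X, W) (Kη hW) := (gη hW W (eta_mem hW)).toAlgebra

theorem regP_of_regPt (q : PrimeSpectrum Γ(X, W)) {c : Kη hW}
    (h : Reg hW (fromSpec_mem hW q) c) :
    letI := algKη hW
    letI := fieldKη hW
    RegP (R := Γ(X, W)) q.asIdeal c := by
  letI := algKη hW
  letI := fieldKη hW
  obtain ⟨r, rfl⟩ := h
  obtain ⟨a, b, hb, hr⟩ := exists_eq_germ_div hW (fromSpec_mem hW q) r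
  refine ⟨a, b, (isUnit_germ_iff hW q b).1 hb, ?_⟩
  have h1 := congrArg (sp hW (fromSpec_mem hW q)) hr
  rw [map_mul, sp_germ, sp_germ, mul_comm] at h1
  exact h1

theorem regPt_of_regP (q : PrimeSpectrum Γ(X, W)) {c : Kη hW}
    (h : letI := algKη hW; letI := fieldKη hW; RegP (R := Γ(X, W)) q.asIdeal c) :
    Reg hW (fromSpec_mem hW q) c := by
  letI := algKη hW
  letI := fieldKη hW
  obtain ⟨a, b, hb, hc⟩ := h
  obtain ⟨u, hu⟩ := (isUnit_germ_iff hW q b).2 hb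
  refine ⟨↑u⁻¹ * X.presheaf.germ W _ (fromSpec_mem hW q) a, ?_⟩
  have hb' : sp hW (fromSpec_mem hW q) ↑u = algebraMap Γ(X, W) (Kη hW) b := by
    rw [hu, sp_germ]; rfl
  have ha' : sp hW (fromSpec_mem hW q) (X.presheaf.germ W _ (fromSpec_mem hW q) a) =
      algebraMap Γ(X, W) (Kη hW) a := by
    rw [sp_germ]; rfl
  rw [map_mul, ha', ← hc, ← hb', ← mul_assoc, ← map_mul, Units.inv_mul, map_one, one_mul]

theorem eta_eq : eta hW = hW.fromSpec ⟨⊥, Ideal.isPrime_bot⟩ := rfl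

theorem exists_isFrame_of_ufd [UniqueFactorizationMonoid Γ(X, W)] (A : Ambient X) (hU : A.U ≤ W)
    (hη : eta hW ∈ A.U) : ∃ s : Γ(A.N, A.U), IsFrame A.N A.U s := by
  letI := algKη hW
  letI := fieldKη hW
  haveI : IsFractionRing Γ(X, W) (Kη hW) := isFractionRing_sections hW
  haveI := isDomain_Kη hW
  obtain ⟨U₀, hU₀, hη₀, e, he⟩ := A.frame _ hη
  obtain ⟨j, hjU, hηj⟩ := hW.exists_basicOpen_le ⟨eta hW, hη₀⟩ (eta_mem hW)
  have hj0 : j ≠ 0 := by
    rintro rfl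
    rw [Scheme.basicOpen_zero] at hηj
    exact hηj
  have hex : ∀ q : PrimeSpectrum Γ(X, W), ∃ l : Kη hW, l ≠ 0 ∧ (hW.fromSpec q ∈ A.U →
      ∃ (U₁ : X.Opens) (h₁ : hW.fromSpec q ∈ U₁) (e₁ : Γ(A.N, U₁)) (_ : IsFrame A.N U₁ e₁),
        kap A hW he hη₀ U₁ ((eta_specializes hW (fromSpec_mem hW q)).mem_open U₁.2 h₁) e₁ = l) ∧
      (hW.fromSpec q ∉ A.U → l = 1) := by
    intro q
    by_cases hq : hW.fromSpec q ∈ A.U
    · obtain ⟨U₁, -, h₁, e₁, he₁⟩ := A.frame _ hq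
      exact ⟨_, kap_frame_ne_zero A hW he hη₀ he₁ _, fun _ => ⟨U₁, h₁, e₁, he₁, rfl⟩,
        fun h => (h hq).elim⟩
    · exact ⟨1, one_ne_zero, fun h => (hq h).elim, fun _ => rfl⟩
  choose lamQ hlam0 hlamU hlamOut using hex
  let pt : ∀ π : Γ(X, W), Prime π → PrimeSpectrum Γ(X, W) := fun π hπ =>
    ⟨Ideal.span {π}, (Ideal.span_singleton_prime hπ.ne_zero).2 hπ⟩
  have hne : ∀ {π : Γ(X, W)}, Prime π → (Ideal.span {π} : Ideal Γ(X, W)) ≠ ⊤ := fun hπ =>
    ((Ideal.span_singleton_prime hπ.ne_zero).2 hπ).ne_top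
  have hUnitP : ∀ (q : PrimeSpectrum Γ(X, W)) (c : Kη hW), RUnit hW (fromSpec_mem hW q) c →
      UnitP q.asIdeal c := by
    intro q c hc
    obtain ⟨d, hd, hcd⟩ := hc.exists_mul_eq_one
    exact ⟨regP_of_regPt hW q hc.reg, eq_inv_of_mul_eq_one_right hcd ▸ regP_of_regPt hW q hd.reg⟩
  obtain ⟨g, hg0, hg⟩ := exists_unitP_div (R := Γ(X, W)) (K := Kη hW)
    (fun π hπ => lamQ (pt π hπ)) (fun π hπ => hlam0 _) hj0
    (fun π hπ hndvd => by
      have hjq : hW.fromSpec (pt π hπ) ∈ X.basicOpen j :=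
        (X.mem_basicOpen j _ (fromSpec_mem hW _)).2
          ((isUnit_germ_iff hW _ j).2 fun h => hndvd (Ideal.mem_span_singleton.1 h))
      obtain ⟨U₁, h₁, e₁, he₁, hl⟩ := hlamU (pt π hπ) (hU₀ (hjU hjq))
      obtain ⟨u, hu, huv⟩ :=
        exists_rUnit_mul A hW he hη₀ he₁ he (fromSpec_mem hW _) h₁ (hjU hjq)
      rw [kap_self, mul_one, hl] at huv
      exact hUnitP _ _ (huv ▸ hu))
    (fun π π' hπ hπ' hass => by
      have e' : pt π hπ = pt π' hπ' :=
        PrimeSpectrum.ext (Ideal.span_singleton_eq_span_singleton.2 hass)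
      rw [e', div_self (hlam0 _)]
      exact unitP_one (hne hπ))
  have hfr : ∀ y (hy : y ∈ A.U), ∃ (U₁ : X.Opens) (hy₁ : y ∈ U₁) (e₁ : Γ(A.N, U₁))
      (_ : IsFrame A.N U₁ e₁) (d : Kη hW), RUnit hW (hU hy) d ∧
      g = d * kap A hW he hη₀ U₁ ((eta_specializes hW (hU hy)).mem_open U₁.2 hy₁) e₁ := by
    intro y hy
    obtain ⟨U₁, hU₁, hy₁, e₁, he₁⟩ := A.frame y hy
    obtain ⟨q, rfl⟩ : ∃ q, hW.fromSpec q = y := by
      have := hW.range_fromSpec.ge (hU hy)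
      exact this
    have hη₁ : eta hW ∈ U₁ := (eta_specializes hW (hU hy)).mem_open U₁.2 hy₁
    set c₁ := kap A hW he hη₀ U₁ hη₁ e₁ with hc₁
    have hc0 : c₁ ≠ 0 := kap_frame_ne_zero A hW he hη₀ he₁ hη₁
    have hu : UnitP q.asIdeal (g / c₁) := by
      have key : ∀ π : Γ(X, W), Prime π → π ∈ q.asIdeal → UnitP (Ideal.span {π}) (g / c₁) := by
        intro π hπ hπq
        have hsp : hW.fromSpec (pt π hπ) ⤳ hW.fromSpec q :=
          ((PrimeSpectrum.le_iff_specializes (pt π hπ) q).1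
            (show Ideal.span {π} ≤ q.asIdeal by rwa [Ideal.span_singleton_le_iff_mem])).map
            hW.fromSpec.continuous
        obtain ⟨U₂, h₂, e₂, he₂, hl⟩ := hlamU (pt π hπ) (hsp.mem_open A.U.2 hy)
        obtain ⟨u, hu, huv⟩ := exists_rUnit_mul A hW he hη₀ he₁ he₂ (fromSpec_mem hW _)
          (hsp.mem_open U₁.2 hy₁) h₂
        rw [hl] at huv
        have h3 := (hg π hπ).mul (pt π hπ).2 (hUnitP _ _ hu).inv
        have e3 : g / c₁ = g / lamQ (pt π hπ) * u⁻¹ := by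
          rw [hc₁, huv, div_mul_eq_div_div_swap, div_eq_mul_inv (g / lamQ (pt π hπ)) u]
        rw [e3]
        exact h3
      exact ⟨regP_of_forall_prime q.2 fun π hπ hπq => (key π hπ hπq).1,
        regP_of_forall_prime q.2 fun π hπ hπq => (key π hπ hπq).2⟩
    refine ⟨U₁, hy₁, e₁, he₁, g / c₁, (rUnit_iff hW _).2
      ⟨(g / c₁)⁻¹, regPt_of_regP hW q hu.1, regPt_of_regP hW q hu.2,
        mul_inv_cancel₀ (div_ne_zero hg0 hc0)⟩, ?_⟩
    exact (div_mul_cancel₀ g hc0).symm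
  obtain ⟨s, hs⟩ := exists_kap_eq A hW he hη₀ hU le_rfl hη (c := g) fun y hy => by
    obtain ⟨U₁, hy₁, e₁, he₁, d, hd, hgd⟩ := hfr y hy
    exact ⟨U₁, hy₁, e₁, he₁, d, hd.reg, hgd⟩
  refine ⟨s, Amp73.isFrame_of_locally s fun y hy => ?_⟩
  obtain ⟨U₁, hy₁, e₁, he₁, d, hd, hgd⟩ := hfr y hy
  obtain ⟨r, hr, hrd⟩ := hd
  obtain ⟨V, hyV, f, rfl⟩ := X.presheaf.exists_germ_eq r
  let V' : X.Opens := X.basicOpen f ⊓ U₁ ⊓ A.U
  have hV'V : V' ≤ V := (inf_le_left.trans inf_le_left).trans (X.basicOpen_le f)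
  have hV'₁ : V' ≤ U₁ := inf_le_left.trans inf_le_right
  have hyV' : y ∈ V' := ⟨⟨(X.mem_basicOpen f y hyV).2 hr, hy₁⟩, hy⟩
  refine ⟨V', inf_le_right, hyV', ?_⟩
  have hηV' : eta hW ∈ V' := (eta_specializes hW (hU hy)).mem_open V'.2 hyV'
  have hu : IsUnit (X.presheaf.map (homOfLE hV'V).op f) := by
    have e : X.presheaf.map (homOfLE hV'V).op f =
        X.presheaf.map (homOfLE (inf_le_left.trans inf_le_left : V' ≤ X.basicOpen f)).op
          (X.presheaf.map (homOfLE (X.basicOpen_le f)).op f) := by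
      simp only [← ConcreteCategory.comp_apply, ← Functor.map_comp, ← op_comp, homOfLE_comp]
    rw [e]
    exact (RingedSpace.isUnit_res_basicOpen X.toRingedSpace f).map _
  have e1 : res A.N (inf_le_right : V' ≤ A.U) s =
      X.presheaf.map (homOfLE hV'V).op f • res A.N hV'₁ e₁ := by
    refine kap_injective A hW he hη₀ (inf_le_right.trans hU) hηV' hη _ _ ?_
    rw [kap_smul, kap_res, kap_res, hs, gη_res, hgd, ← hrd, sp_germ]
  rw [e1]
  exact (Amp73.isFrame_smul_iff (he₁.res hV'₁) _).2 hu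

end Groth.Agent.Curves2.Ufd
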