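import Groth.Agent.Curves2.Ufd.Extend
import Groth.Agent.ParaF26.Sections

/-!
# Invertible modules extend across points with factorial local rings
-/

set_option autoImplicit false

universe u

open CategoryTheory CategoryTheory.Limits AlgebraicGeometry TopologicalSpace
open Groth.Agent.Var76.LineBundle

noncomputable section

namespace Groth.Agent.Curves2.Ufd

variable {X : Scheme.{u}}

theorem app_add' {M N : X.Modules} (φ ψ : M ⟶ N) (V : X.Opens) (s : Γ(M, V)) :
    (φ + ψ).app V s = φ.app V s + ψ.app V s := rfl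

theorem biprod_total (P Q : X.Modules) {V : X.Opens} (s : Γ(P ⊞ Q, V)) :
    (biprod.inl : P ⟶ P ⊞ Q).app V ((biprod.fst : P ⊞ Q ⟶ P).app V s) +
      (biprod.inr : Q ⟶ P ⊞ Q).app V ((biprod.snd : P ⊞ Q ⟶ Q).app V s) = s := by
  have h := congrArg (fun φ : P ⊞ Q ⟶ P ⊞ Q => φ.app V s) (biprod.total (X := P) (Y := Q))
  exact (app_add' _ _ V s).symm.trans h

theorem biprod_fst_inl (P Q : X.Modules) {V : X.Opens} (a : Γ(P, V)) :
    (biprod.fst : P ⊞ Q ⟶ P).app V ((biprod.inl : P ⟶ P ⊞ Q).app V a) = a :=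
  congrArg (fun φ : P ⟶ P => φ.app V a) biprod.inl_fst

theorem biprod_ext (P Q : X.Modules) {V : X.Opens} {s t : Γ(P ⊞ Q, V)}
    (h₁ : (biprod.fst : P ⊞ Q ⟶ P).app V s = (biprod.fst : P ⊞ Q ⟶ P).app V t)
    (h₂ : (biprod.snd : P ⊞ Q ⟶ Q).app V s = (biprod.snd : P ⊞ Q ⟶ Q).app V t) : s = t := by
  rw [← biprod_total P Q s, h₁, h₂, biprod_total P Q t]

theorem bijective_res_biprod (P Q : X.Modules) {V V' : X.Opens} (h : V' ≤ V)
    (hP : Function.Bijective (res P h)) (hQ : Function.Bijective (res Q h)) :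
    Function.Bijective (res (P ⊞ Q) h) := by
  refine ⟨fun s t hst => biprod_ext P Q (hP.1 ?_) (hQ.1 ?_), fun t => ?_⟩
  · rw [← Mero90.app_res, ← Mero90.app_res, hst]
  · rw [← Mero90.app_res, ← Mero90.app_res, hst]
  · obtain ⟨a, ha⟩ := hP.2 ((biprod.fst : P ⊞ Q ⟶ P).app V' t)
    obtain ⟨b, hb⟩ := hQ.2 ((biprod.snd : P ⊞ Q ⟶ Q).app V' t)
    refine ⟨(biprod.inl : P ⟶ P ⊞ Q).app V a + (biprod.inr : Q ⟶ P ⊞ Q).app V b, ?_⟩
    rw [Amp73.res_add, ← Mero90.app_res, ← Mero90.app_res, ha, hb, biprod_total]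

theorem isFrame_biprod_inl (P Q : X.Modules) {W : X.Opens} {e : Γ(P, W)} (he : IsFrame P W e)
    (hQ : ∀ V : X.Opens, V ≤ W → Subsingleton Γ(Q, V)) :
    IsFrame (P ⊞ Q) W ((biprod.inl : P ⟶ P ⊞ Q).app W e) := by
  intro V hV
  have := hQ V hV
  have key : ∀ a : Γ(X, V), a • res (P ⊞ Q) hV ((biprod.inl : P ⟶ P ⊞ Q).app W e) =
      (biprod.inl : P ⟶ P ⊞ Q).app V (a • res P hV e) := fun a => by
    rw [Scheme.Modules.Hom.app_smul, Mero90.app_res]
  refine ⟨fun a b hab => (he V hV).1 ?_, fun s => ?_⟩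
  · dsimp only at hab ⊢
    rw [key, key] at hab
    have := congrArg ((biprod.fst : P ⊞ Q ⟶ P).app V) hab
    rwa [biprod_fst_inl, biprod_fst_inl] at this
  · obtain ⟨a, ha⟩ := (he V hV).2 ((biprod.fst : P ⊞ Q ⟶ P).app V s)
    refine ⟨a, biprod_ext P Q ?_ (Subsingleton.elim _ _)⟩
    dsimp only at ha ⊢
    rw [key, biprod_fst_inl, ha]

theorem isFrame_biprod_inr (P Q : X.Modules) {W : X.Opens} {e : Γ(Q, W)} (he : IsFrame Q W e)
    (hP : ∀ V : X.Opens, V ≤ W → Subsingleton Γ(P, V)) :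
    IsFrame (P ⊞ Q) W ((biprod.inr : Q ⟶ P ⊞ Q).app W e) := by
  intro V hV
  have := hP V hV
  have key : ∀ a : Γ(X, V), a • res (P ⊞ Q) hV ((biprod.inr : Q ⟶ P ⊞ Q).app W e) =
      (biprod.inr : Q ⟶ P ⊞ Q).app V (a • res Q hV e) := fun a => by
    rw [Scheme.Modules.Hom.app_smul, Mero90.app_res]
  have hsnd : ∀ c : Γ(Q, V), (biprod.snd : P ⊞ Q ⟶ Q).app V ((biprod.inr : Q ⟶ P ⊞ Q).app V c) = c :=
    fun c => congrArg (fun φ : Q ⟶ Q => φ.app V c) biprod.inr_snd
  refine ⟨fun a b hab => (he V hV).1 ?_, fun s => ?_⟩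
  · dsimp only at hab ⊢
    rw [key, key] at hab
    have := congrArg ((biprod.snd : P ⊞ Q ⟶ Q).app V) hab
    rwa [hsnd, hsnd] at this
  · obtain ⟨a, ha⟩ := (he V hV).2 ((biprod.snd : P ⊞ Q ⟶ Q).app V s)
    refine ⟨a, biprod_ext P Q (Subsingleton.elim _ _) ?_⟩
    dsimp only at ha ⊢
    rw [key, hsnd, ha]

theorem subsingleton_push {Y : Scheme.{u}} (g : Y ⟶ X) (L : Y.Modules) {V : X.Opens}
    (h : ∀ y : Y, g y ∉ V) : Subsingleton Γ((Scheme.Modules.pushforward g).obj L, V) :=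
  subsingleton_of_forall_eq 0 fun (s : Γ(L, g ⁻¹ᵁ V)) =>
    Var76.ZeroScheme.eq_of_locally L s 0 fun y hy => (h y hy).elim

/-- Restriction of morphisms which are isomorphisms below the range of an open immersion. -/
theorem isIso_restrict_map {Y : Scheme.{u}} (g : Y ⟶ X) [IsOpenImmersion g] {M N : X.Modules}
    (φ : M ⟶ N) (h : ∀ V : X.Opens, V ≤ g.opensRange → Function.Bijective (φ.app V)) :
    IsIso ((Scheme.Modules.restrictFunctor g).map φ) := by
  rw [Scheme.Modules.Hom.isIso_iff_isIso_app]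
  intro V
  refine (ConcreteCategory.isIso_iff_bijective _).2 ?_
  exact h (g ''ᵁ V) (g.image_le_opensRange V)

variable [IsLocallyNoetherian X]

theorem exists_extension (U : X.Opens) (L : (U : Scheme.{u}).Modules) (hL : PicF.IsInvertible L)
    (hufd : ∀ x : X, x ∉ U → UniqueFactorizationMonoid (X.presheaf.stalk x)) :
    ∃ L' : X.Modules, PicF.IsInvertible L' ∧ Nonempty (L'.restrict U.ι ≅ L) := by
  let U₂ : X.Opens := ⟨(closure (U : Set X))ᶜ, isClosed_closure.isOpen_compl⟩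
  have hdisj : ∀ y, y ∈ U → y ∈ U₂ → False := fun y h h' => h' (subset_closure h)
  let P := (Scheme.Modules.pushforward U.ι).obj L
  let Q := (Scheme.Modules.pushforward U₂.ι).obj (Coh.structureModule (U₂ : Scheme.{u}))
  have hP0 : ∀ V : X.Opens, V ≤ U₂ → Subsingleton Γ(P, V) := fun V hV =>
    subsingleton_push U.ι L fun y hy => hdisj _ y.2 (hV hy)
  have hQ0 : ∀ V : X.Opens, V ≤ U → Subsingleton Γ(Q, V) := fun V hV =>
    subsingleton_push U₂.ι _ fun y hy => hdisj _ (hV hy) y.2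
  let A : Ambient X :=
    { U := U ⊔ U₂
      N := P ⊞ Q
      bij := fun V => bijective_res_biprod P Q _
        (ParaF26.closed_pushforward U.ι L ⊤ (by rw [Scheme.Opens.opensRange_ι]; exact inf_le_right.trans le_sup_left) V le_top)
        (ParaF26.closed_pushforward U₂.ι _ ⊤ (by rw [Scheme.Opens.opensRange_ι]; exact inf_le_right.trans le_sup_right) V le_top)
      frame := fun y hy => by
        rcases hy with hy | hy
        · obtain ⟨W, e, hyW, hW, he⟩ := ParaF26.framedOn_push U.ι hL (V := U)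
            (le_of_eq (Scheme.Opens.opensRange_ι U).symm) y hy
          exact ⟨W, hW.trans le_sup_left, hyW, _,
            isFrame_biprod_inl P Q he fun V hV => hQ0 V (hV.trans hW)⟩
        · obtain ⟨W, e, hyW, hW, he⟩ := ParaF26.framedOn_push U₂.ι
            (EGA73.isInvertible_structureModule (X := (U₂ : Scheme.{u}))) (V := U₂)
            (le_of_eq (Scheme.Opens.opensRange_ι U₂).symm) y hy
          exact ⟨W, hW.trans le_sup_right, hyW, _,
            isFrame_biprod_inr P Q he fun V hV => hP0 V (hV.trans hW)⟩ }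
  have hd : Dense (A.U : Set X) := fun y => by
    by_cases hy : y ∈ closure (U : Set X)
    · exact closure_mono (show (U : Set X) ⊆ A.U from fun z hz => Or.inl hz) hy
    · exact subset_closure (Or.inr hy)
  refine ⟨(extension A).mod,
    isInvertible_extension A (fun x hx => hufd x fun h => hx (Or.inl h)) hd, ?_⟩
  have h1 := isIso_restrict_map U.ι (extension A).ι fun V hV =>
    bijective_ι_app A ((hV.trans (le_of_eq (Scheme.Opens.opensRange_ι U))).trans le_sup_left)
  have h2 := isIso_restrict_map U.ι (biprod.fst : P ⊞ Q ⟶ P) fun V hV => by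
    have := hQ0 V (hV.trans (le_of_eq (Scheme.Opens.opensRange_ι U)))
    exact ⟨fun s t h => biprod_ext P Q h (Subsingleton.elim _ _),
      fun a => ⟨_, biprod_fst_inl P Q a⟩⟩
  exact ⟨asIso ((Scheme.Modules.restrictFunctor U.ι).map (extension A).ι) ≪≫
    asIso ((Scheme.Modules.restrictFunctor U.ι).map (biprod.fst : P ⊞ Q ⟶ P)) ≪≫
    asIso ((Scheme.Modules.restrictAdjunction U.ι).counit.app L)⟩

end Groth.Agent.Curves2.Ufd
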