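import Groth.Agent.Curves2.Ufd.Fractions
import Mathlib.AlgebraicGeometry.AffineScheme
import Mathlib.AlgebraicGeometry.Stalk
import Mathlib.AlgebraicGeometry.Noetherian
import Mathlib.RingTheory.Ideal.KrullsHeightTheorem

/-!
# The function field of an integral affine open, inside the ambient scheme

For an affine open `W` whose ring of sections is a domain we compare the local rings at points of
`W` with the local ring at the generic point `eta hW`.
-/

set_option autoImplicit false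
set_option linter.style.haveILetI false

universe u

open CategoryTheory AlgebraicGeometry TopologicalSpace IsLocalRing

noncomputable section

namespace Groth.Agent.Curves2.Ufd

variable {X : Scheme.{u}} {W : X.Opens} (hW : IsAffineOpen W) [IsDomain Γ(X, W)]
include hW

/-- The generic point of `W`. -/
def eta : X := hW.fromSpec ⟨⊥, Ideal.isPrime_bot⟩

theorem eta_mem : eta hW ∈ W := hW.range_fromSpec.le ⟨_, rfl⟩

theorem eta_specializes {y : X} (hy : y ∈ W) : eta hW ⤳ y := by
  have h : hW.fromSpec ⟨⊥, Ideal.isPrime_bot⟩ ⤳ hW.fromSpec (hW.primeIdealOf ⟨y, hy⟩) :=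
    ((PrimeSpectrum.le_iff_specializes ⟨⊥, Ideal.isPrime_bot⟩ _).1 bot_le).map hW.fromSpec.continuous
  rwa [hW.fromSpec_primeIdealOf] at h

theorem eq_eta_of_specializes {z : X} (hz : z ⤳ eta hW) : z = eta hW := by
  have hzW : z ∈ W := hz.mem_open W.2 (eta_mem hW)
  exact (hz.antisymm (eta_specializes hW hzW)).eq

/-- The function field of `W`. -/
abbrev Kη : Type u := X.presheaf.stalk (eta hW)

/-- The germ at the generic point. -/
abbrev gη (V : X.Opens) (h : eta hW ∈ V) : Γ(X, V) →+* Kη hW := (X.presheaf.germ V _ h).hom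

/-- The map from a local ring to the function field. -/
abbrev sp {y : X} (hy : y ∈ W) : X.presheaf.stalk y →+* Kη hW :=
  (X.presheaf.stalkSpecializes (eta_specializes hW hy)).hom

theorem sp_germ {y : X} (hy : y ∈ W) (V : X.Opens) (hyV : y ∈ V) (f : Γ(X, V)) :
    sp hW hy (X.presheaf.germ V y hyV f) =
      gη hW V ((eta_specializes hW hy).mem_open V.2 hyV) f :=
  congr($(TopCat.Presheaf.germ_stalkSpecializes X.presheaf hyV (eta_specializes hW hy)) f)

theorem gη_res {V V' : X.Opens} (h : V' ≤ V) (hη : eta hW ∈ V') (f : Γ(X, V)) :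
    gη hW V' hη (X.presheaf.map (homOfLE h).op f) = gη hW V (h hη) f :=
  X.presheaf.germ_res_apply (homOfLE h) _ hη f

theorem isFractionRing_sections :
    @IsFractionRing Γ(X, W) _ (Kη hW) _ (gη hW W (eta_mem hW)).toAlgebra := by
  have h := hW.isLocalization_stalk' ⟨⊥, Ideal.isPrime_bot⟩ (eta_mem hW)
  have e : (⊥ : Ideal Γ(X, W)).primeCompl = nonZeroDivisors Γ(X, W) := by
    ext a
    rw [Ideal.mem_primeCompl_iff, Ideal.mem_bot, mem_nonZeroDivisors_iff_ne_zero]
  unfold IsLocalization.AtPrime at h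
  rw [e] at h
  exact h

theorem isDomain_Kη : IsDomain (Kη hW) := by
  letI := (gη hW W (eta_mem hW)).toAlgebra
  haveI := isFractionRing_sections hW
  exact IsFractionRing.isDomain Γ(X, W)

theorem isField_Kη : IsField (Kη hW) := by
  letI := (gη hW W (eta_mem hW)).toAlgebra
  haveI := isFractionRing_sections hW
  letI := IsFractionRing.toField Γ(X, W) (K := Kη hW)
  exact Field.toIsField _

/-- The field structure on the function field. -/
@[implicit_reducible]
def fieldKη : Field (Kη hW) := (isField_Kη hW).toField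

theorem exists_eq_germ_div {y : X} (hy : y ∈ W) (r : X.presheaf.stalk y) :
    ∃ a b : Γ(X, W), IsUnit (X.presheaf.germ W y hy b) ∧
      r * X.presheaf.germ W y hy b = X.presheaf.germ W y hy a := by
  let : Algebra Γ(X, W) (X.presheaf.stalk y) := TopCat.Presheaf.algebra_section_stalk X.presheaf ⟨y, hy⟩
  have := hW.isLocalization_stalk ⟨y, hy⟩
  obtain ⟨⟨a, b⟩, h⟩ := IsLocalization.surj (hW.primeIdealOf ⟨y, hy⟩).asIdeal.primeCompl r
  exact ⟨a, b, IsLocalization.map_units (X.presheaf.stalk y) b, h⟩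

theorem sp_injective {y : X} (hy : y ∈ W) : Function.Injective (sp hW hy) := by
  refine (injective_iff_map_eq_zero _).2 fun r hr => ?_
  obtain ⟨a, b, hb, h⟩ := exists_eq_germ_div hW hy r
  have h1 := congrArg (sp hW hy) h
  rw [map_mul, hr, zero_mul, sp_germ] at h1
  letI := (gη hW W (eta_mem hW)).toAlgebra
  haveI := isFractionRing_sections hW
  have ha : a = 0 := IsFractionRing.injective Γ(X, W) (Kη hW)
    (h1.symm.trans (map_zero (algebraMap Γ(X, W) (Kη hW))).symm)
  rw [ha, map_zero] at h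
  exact hb.mul_left_eq_zero.1 h

theorem isDomain_stalk {y : X} (hy : y ∈ W) : IsDomain (X.presheaf.stalk y) := by
  haveI := isDomain_Kη hW
  exact (sp_injective hW hy).isDomain

theorem isFractionRing_stalk {y : X} (hy : y ∈ W) :
    @IsFractionRing (X.presheaf.stalk y) _ (Kη hW) _ (sp hW hy).toAlgebra := by
  letI : Algebra Γ(X, W) (Kη hW) := (gη hW W (eta_mem hW)).toAlgebra
  haveI := isFractionRing_sections hW
  haveI := isDomain_stalk hW hy
  letI : Algebra Γ(X, W) (X.presheaf.stalk y) :=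
    TopCat.Presheaf.algebra_section_stalk X.presheaf ⟨y, hy⟩
  haveI := hW.isLocalization_stalk ⟨y, hy⟩
  letI : Algebra (X.presheaf.stalk y) (Kη hW) := (sp hW hy).toAlgebra
  haveI : IsScalarTower Γ(X, W) (X.presheaf.stalk y) (Kη hW) :=
    IsScalarTower.of_algebraMap_eq fun f => (sp_germ hW hy W hy f).symm
  exact IsFractionRing.isFractionRing_of_isDomain_of_isLocalization
    (hW.primeIdealOf ⟨y, hy⟩).asIdeal.primeCompl (X.presheaf.stalk y) (Kη hW)

theorem gη_injective {V : X.Opens} (hV : V ≤ W) (hη : eta hW ∈ V) :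
    Function.Injective (gη hW V hη) := by
  intro f g h
  refine TopCat.Presheaf.section_ext X.sheaf V f g fun y hy => sp_injective hW (hV hy) ?_
  exact (sp_germ hW (hV hy) V hy f).trans (h.trans (sp_germ hW (hV hy) V hy g).symm)

/-- `c` is regular at `y`. -/
def Reg {y : X} (hy : y ∈ W) (c : Kη hW) : Prop := ∃ r, sp hW hy r = c

/-- `c` is a unit at `y`. -/
def RUnit {y : X} (hy : y ∈ W) (c : Kη hW) : Prop := ∃ r, IsUnit r ∧ sp hW hy r = c

theorem Reg.mul {y : X} {hy : y ∈ W} {c d : Kη hW} (hc : Reg hW hy c) (hd : Reg hW hy d) :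
    Reg hW hy (c * d) := by
  obtain ⟨r, rfl⟩ := hc
  obtain ⟨s, rfl⟩ := hd
  exact ⟨r * s, map_mul _ _ _⟩

theorem RUnit.reg {y : X} {hy : y ∈ W} {c : Kη hW} (hc : RUnit hW hy c) : Reg hW hy c := by
  obtain ⟨r, -, h⟩ := hc
  exact ⟨r, h⟩

theorem RUnit.mul {y : X} {hy : y ∈ W} {c d : Kη hW} (hc : RUnit hW hy c) (hd : RUnit hW hy d) :
    RUnit hW hy (c * d) := by
  obtain ⟨r, hr, rfl⟩ := hc
  obtain ⟨s, hs, rfl⟩ := hd
  exact ⟨r * s, hr.mul hs, map_mul _ _ _⟩

theorem RUnit.exists_mul_eq_one {y : X} {hy : y ∈ W} {c : Kη hW} (hc : RUnit hW hy c) :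
    ∃ d, RUnit hW hy d ∧ c * d = 1 := by
  obtain ⟨r, hr, rfl⟩ := hc
  obtain ⟨u, rfl⟩ := hr
  exact ⟨sp hW hy ↑u⁻¹, ⟨_, Units.isUnit _, rfl⟩, by rw [← map_mul, Units.mul_inv, map_one]⟩

theorem reg_gη {V : X.Opens} {y : X} (hy : y ∈ W) (hyV : y ∈ V) (f : Γ(X, V)) :
    Reg hW hy (gη hW V ((eta_specializes hW hy).mem_open V.2 hyV) f) :=
  ⟨X.presheaf.germ V y hyV f, sp_germ hW hy V hyV f⟩

theorem rUnit_gη {V : X.Opens} {y : X} (hy : y ∈ W) (hyV : y ∈ V) {f : Γ(X, V)} (hf : IsUnit f) :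
    RUnit hW hy (gη hW V ((eta_specializes hW hy).mem_open V.2 hyV) f) :=
  ⟨X.presheaf.germ V y hyV f, hf.map (X.presheaf.germ V y hyV).hom, sp_germ hW hy V hyV f⟩

/-- An everywhere regular element is a section. -/
theorem exists_section {V : X.Opens} (hV : V ≤ W) (hη : eta hW ∈ V) {c : Kη hW}
    (hc : ∀ y (hy : y ∈ V), Reg hW (hV hy) c) : ∃ f, gη hW V hη f = c := by
  have hloc : ∀ y : V, ∃ (V' : X.Opens) (hle : V' ≤ V) (f : Γ(X, V')), y.1 ∈ V' ∧
      ∀ hη' : eta hW ∈ V', gη hW V' hη' f = c := by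
    intro y
    obtain ⟨r, hr⟩ := hc y.1 y.2
    obtain ⟨V₀, hy₀, f₀, rfl⟩ := X.presheaf.exists_germ_eq r
    refine ⟨V₀ ⊓ V, inf_le_right, X.presheaf.map (homOfLE (inf_le_left : V₀ ⊓ V ≤ V₀)).op f₀,
      ⟨hy₀, y.2⟩, fun hη' => ?_⟩
    rw [gη_res]
    exact (sp_germ hW (hV y.2) V₀ hy₀ f₀).symm.trans hr
  choose V' hle f hmem hf using hloc
  obtain ⟨F, hF, -⟩ := TopCat.Sheaf.existsUnique_gluing' X.sheaf V' V (fun y => homOfLE (hle y))
    (fun y hy => Opens.mem_iSup.2 ⟨⟨y, hy⟩, hmem ⟨y, hy⟩⟩) f (fun y y' => by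
      by_cases h : ∃ z, z ∈ V' y ⊓ V' y'
      · obtain ⟨z, hz⟩ := h
        have hzW : z ∈ W := hV (hle y hz.1)
        have hη' : eta hW ∈ V' y ⊓ V' y' :=
          (eta_specializes hW hzW).mem_open (V' y ⊓ V' y').2 hz
        refine gη_injective hW (inf_le_left.trans ((hle y).trans hV)) hη' ?_
        exact ((gη_res hW inf_le_left hη' (f y)).trans (hf y hη'.1)).trans
          ((gη_res hW inf_le_right hη' (f y')).trans (hf y' hη'.2)).symm
      · refine TopCat.Presheaf.section_ext X.sheaf _ _ _ fun z hz => (h ⟨z, hz⟩).elim)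
  refine ⟨F, ?_⟩
  have hmem' := hmem ⟨eta hW, hη⟩
  rw [← hf ⟨eta hW, hη⟩ hmem', ← hF ⟨eta hW, hη⟩]
  exact (gη_res hW (hle _) hmem' F).symm

section Generisation

variable {x : X} (hx : x ∈ W)

omit hW [IsDomain Γ(X, W)] in
include hx in
theorem mem_of_specializes {y : X} (h : y ⤳ x) : y ∈ W := h.mem_open W.2 hx

omit hW [IsDomain Γ(X, W)] in
theorem comap_maximalIdeal_stalkSpecializes (p : PrimeSpectrum (X.presheaf.stalk x))
    (h : X.fromSpecStalk x p ⤳ x) :
    (maximalIdeal (X.presheaf.stalk (X.fromSpecStalk x p))).comap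
      (X.presheaf.stalkSpecializes h).hom = p.asIdeal := by
  have h1 : X.fromSpecStalk x
      (Spec.map (X.presheaf.stalkSpecializes h) (closedPoint (X.presheaf.stalk (X.fromSpecStalk x p)))) =
      X.fromSpecStalk x p := by
    rw [← Scheme.Hom.comp_apply, Scheme.SpecMap_stalkSpecializes_fromSpecStalk,
      Scheme.fromSpecStalk_closedPoint]
  exact congrArg PrimeSpectrum.asIdeal ((X.fromSpecStalk x).isEmbedding.injective h1)

theorem regP_of_reg (p : PrimeSpectrum (X.presheaf.stalk x)) (h : X.fromSpecStalk x p ⤳ x)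
    {c : Kη hW} (hc : Reg hW (mem_of_specializes hx h) c) :
    letI := (sp hW hx).toAlgebra
    ∃ a b : X.presheaf.stalk x, b ∉ p.asIdeal ∧
      algebraMap _ (Kη hW) b * c = algebraMap _ (Kη hW) a := by
  obtain ⟨r, rfl⟩ := hc
  obtain ⟨a, b, hb, hr⟩ := exists_eq_germ_div hW (mem_of_specializes hx h) r
  refine ⟨X.presheaf.germ W x hx a, X.presheaf.germ W x hx b, fun hmem => ?_, ?_⟩
  · rw [← comap_maximalIdeal_stalkSpecializes p h, Ideal.mem_comap,
      TopCat.Presheaf.germ_stalkSpecializes_apply] at hmem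
    exact (IsLocalRing.mem_maximalIdeal _).1 hmem hb
  · show sp hW hx _ * sp hW _ r = sp hW hx _
    rw [sp_germ, sp_germ, ← sp_germ hW (mem_of_specializes hx h) W _ a, ← hr, map_mul, sp_germ, mul_comm]
    exact mem_of_specializes hx h

theorem reg_of_fraction {y : X} (h : y ⤳ x) {c : Kη hW} {a b : X.presheaf.stalk x}
    (hb : IsUnit (X.presheaf.stalkSpecializes h b)) (hc : sp hW hx b * c = sp hW hx a) :
    Reg hW (mem_of_specializes hx h) c := by
  obtain ⟨u, hu⟩ := hb
  have hcomp : ∀ z, sp hW (mem_of_specializes hx h) (X.presheaf.stalkSpecializes h z) = sp hW hx z :=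
    fun z => congr($(TopCat.Presheaf.stalkSpecializes_comp X.presheaf
      (eta_specializes hW (mem_of_specializes hx h)) h) z)
  refine ⟨↑u⁻¹ * X.presheaf.stalkSpecializes h a, ?_⟩
  rw [map_mul, hcomp, ← hc, ← hcomp b, ← hu, ← mul_assoc, ← map_mul, Units.inv_mul, map_one, one_mul]

include hW hx in
theorem ringKrullDim_le_one_of_span (π : X.presheaf.stalk x) (hπ : Prime π)
    [IsNoetherianRing (X.presheaf.stalk x)] (p : PrimeSpectrum (X.presheaf.stalk x))
    (hp : p.asIdeal = Ideal.span {π}) (h : X.fromSpecStalk x p ⤳ x) :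
    ringKrullDim (X.presheaf.stalk (X.fromSpecStalk x p)) ≤ 1 := by
  have hy := mem_of_specializes hx h
  letI : Algebra Γ(X, W) (X.presheaf.stalk (X.fromSpecStalk x p)) :=
    TopCat.Presheaf.algebra_section_stalk X.presheaf ⟨_, hy⟩
  haveI := hW.isLocalization_stalk ⟨_, hy⟩
  rw [IsLocalization.AtPrime.ringKrullDim_eq_height (hW.primeIdealOf ⟨_, hy⟩).asIdeal]
  letI : Algebra Γ(X, W) (X.presheaf.stalk x) :=
    TopCat.Presheaf.algebra_section_stalk X.presheaf ⟨x, hx⟩
  haveI := hW.isLocalization_stalk ⟨x, hx⟩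
  have e : (hW.primeIdealOf ⟨_, hy⟩).asIdeal = p.asIdeal.under Γ(X, W) := by
    refine Eq.trans ?_ (congrArg (Ideal.under Γ(X, W)) (comap_maximalIdeal_stalkSpecializes p h))
    ext a
    rw [Ideal.under, Ideal.mem_comap, Ideal.mem_comap, IsLocalRing.mem_maximalIdeal, mem_nonunits_iff,
      ← not_iff_not, not_not, ← Ideal.mem_primeCompl_iff,
      ← IsLocalization.AtPrime.isUnit_to_map_iff (X.presheaf.stalk (X.fromSpecStalk x p))]
    show IsUnit ((X.presheaf.germ W _ hy) a) ↔ _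
    rw [← TopCat.Presheaf.germ_stalkSpecializes_apply (F := X.presheaf) (hy := hx) h a]
    rfl
  rw [e, IsLocalization.height_under (hW.primeIdealOf ⟨x, hx⟩).asIdeal.primeCompl, hp]
  exact_mod_cast Ideal.height_span_singleton_le_one hπ.not_isUnit

end Generisation

end Groth.Agent.Curves2.Ufd
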