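import Groth.Agent.Curves2.Ufd.AffinePts
import Groth.Agent.Var76.LineBundle
import Groth.Agent.Amp73.Gen
import Groth.Agent.Var76.ZeroScheme

/-!
# Rational coordinates of sections relative to a frame at the generic point
-/

set_option autoImplicit false

universe u

open CategoryTheory AlgebraicGeometry TopologicalSpace
open Groth.Agent.Var76.LineBundle

noncomputable section

namespace Groth.Agent.Curves2.Ufd

/-- A module which is invertible on an open `U` and pushed forward from it. -/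
structure Ambient (X : Scheme.{u}) where
  /-- the open -/
  U : X.Opens
  /-- the module -/
  N : X.Modules
  bij : ∀ V : X.Opens, Function.Bijective (res N (inf_le_left : V ⊓ U ≤ V))
  frame : ∀ y ∈ U, ∃ U₀ : X.Opens, U₀ ≤ U ∧ y ∈ U₀ ∧ ∃ e : Γ(N, U₀), IsFrame N U₀ e

variable {X : Scheme.{u}} (A : Ambient X) {W : X.Opens} (hW : IsAffineOpen W) [IsDomain Γ(X, W)]
  {U₀ : X.Opens} {e : Γ(A.N, U₀)} (he : IsFrame A.N U₀ e) (hη₀ : eta hW ∈ U₀)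

include he hη₀

/-- The rational coordinate of a section in the frame `e`. -/
def kap (V : X.Opens) (hη : eta hW ∈ V) (s : Γ(A.N, V)) : Kη hW :=
  gη hW (V ⊓ U₀) ⟨hη, hη₀⟩
    ((he (V ⊓ U₀) inf_le_right).2 (res A.N inf_le_left s)).choose

theorem kap_eq {V V' : X.Opens} (hη : eta hW ∈ V) (s : Γ(A.N, V)) (h : V' ≤ V) (h₀ : V' ≤ U₀)
    (hη' : eta hW ∈ V') (f : Γ(X, V')) (hf : f • res A.N h₀ e = res A.N h s) :
    kap A hW he hη₀ V hη s = gη hW V' hη' f := by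
  have hle : V' ≤ V ⊓ U₀ := le_inf h h₀
  unfold kap
  rw [← gη_res hW hle hη']
  refine congrArg _ ((he V' h₀).1 ?_)
  have h1 := congrArg (res A.N hle) ((he (V ⊓ U₀) inf_le_right).2 (res A.N inf_le_left s)).choose_spec
  dsimp only at h1
  rw [res_smul, res_res, res_res] at h1
  exact h1.trans hf.symm

theorem exists_coord_of_frame {V : X.Opens} (s : Γ(A.N, V)) :
    ∃ f : Γ(X, V ⊓ U₀), f • res A.N inf_le_right e = res A.N (inf_le_left : V ⊓ U₀ ≤ V) s := by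
  exact (he (V ⊓ U₀) inf_le_right).2 (res A.N inf_le_left s)

theorem kap_res {V V' : X.Opens} (h : V' ≤ V) (hη : eta hW ∈ V') (s : Γ(A.N, V)) :
    kap A hW he hη₀ V' hη (res A.N h s) = kap A hW he hη₀ V (h hη) s := by
  obtain ⟨f, hf⟩ := exists_coord_of_frame A hW he hη₀ (res A.N h s)
  rw [kap_eq A hW he hη₀ hη _ inf_le_left inf_le_right ⟨hη, hη₀⟩ f hf]
  rw [res_res] at hf
  exact (kap_eq A hW he hη₀ (h hη) s _ inf_le_right ⟨hη, hη₀⟩ f hf).symm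

theorem kap_smul {V : X.Opens} (hη : eta hW ∈ V) (a : Γ(X, V)) (s : Γ(A.N, V)) :
    kap A hW he hη₀ V hη (a • s) = gη hW V hη a * kap A hW he hη₀ V hη s := by
  obtain ⟨f, hf⟩ := exists_coord_of_frame A hW he hη₀ s
  rw [kap_eq A hW he hη₀ hη s inf_le_left inf_le_right ⟨hη, hη₀⟩ f hf,
    kap_eq A hW he hη₀ hη _ inf_le_left inf_le_right ⟨hη, hη₀⟩
      (X.presheaf.map (homOfLE inf_le_left).op a * f) (by rw [mul_smul, hf, res_smul]),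
    map_mul, gη_res]

theorem kap_self : kap A hW he hη₀ U₀ hη₀ e = 1 := by
  rw [kap_eq A hW he hη₀ hη₀ e le_rfl le_rfl hη₀ 1 (one_smul _ _), map_one]

theorem kap_zero {V : X.Opens} (hη : eta hW ∈ V) : kap A hW he hη₀ V hη 0 = 0 := by
  rw [kap_eq A hW he hη₀ hη 0 inf_le_left inf_le_right ⟨hη, hη₀⟩ 0 (by
    rw [zero_smul]; exact (map_zero _).symm), map_zero]

/-- Two frames differ by a unit at every common point. -/
theorem exists_rUnit_mul {U₁ U₂ : X.Opens} {e₁ : Γ(A.N, U₁)} {e₂ : Γ(A.N, U₂)}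
    (h₁ : IsFrame A.N U₁ e₁) (h₂ : IsFrame A.N U₂ e₂) {y : X} (hy : y ∈ W) (hy₁ : y ∈ U₁)
    (hy₂ : y ∈ U₂) :
    ∃ u, RUnit hW hy u ∧
      kap A hW he hη₀ U₁ ((eta_specializes hW hy).mem_open U₁.2 hy₁) e₁ =
        u * kap A hW he hη₀ U₂ ((eta_specializes hW hy).mem_open U₂.2 hy₂) e₂ := by
  obtain ⟨c, hc⟩ := (h₂ (U₁ ⊓ U₂) inf_le_right).2 (res A.N inf_le_left e₁)
  dsimp only at hc
  have hu : IsUnit c := (Amp73.isFrame_smul_iff (h₂.res inf_le_right) c).1 (by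
    rw [hc]; exact h₁.res inf_le_left)
  have hη₁₂ : eta hW ∈ U₁ ⊓ U₂ := (eta_specializes hW hy).mem_open (U₁ ⊓ U₂).2 ⟨hy₁, hy₂⟩
  refine ⟨gη hW (U₁ ⊓ U₂) hη₁₂ c, rUnit_gη hW hy (show y ∈ U₁ ⊓ U₂ from ⟨hy₁, hy₂⟩) hu, ?_⟩
  rw [← kap_res A hW he hη₀ inf_le_left hη₁₂ e₁, ← hc, kap_smul, kap_res]

theorem kap_frame_ne_zero {U₁ : X.Opens} {e₁ : Γ(A.N, U₁)} (h₁ : IsFrame A.N U₁ e₁)
    (hη₁ : eta hW ∈ U₁) : kap A hW he hη₀ U₁ hη₁ e₁ ≠ 0 := by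
  intro h0
  obtain ⟨u, -, hu⟩ := exists_rUnit_mul A hW he hη₀ he h₁ (eta_mem hW) hη₀ hη₁
  rw [h0, mul_zero, kap_self] at hu
  haveI := isDomain_Kη hW
  exact one_ne_zero hu

omit he hη₀ in
theorem ext_of_res {V : X.Opens} {s t : Γ(A.N, V)}
    (h : res A.N (inf_le_left : V ⊓ A.U ≤ V) s = res A.N inf_le_left t) : s = t :=
  (A.bij V).1 h

theorem kap_injective {V : X.Opens} (hV : V ≤ W) (hη : eta hW ∈ V) (hηU : eta hW ∈ A.U)
    (s t : Γ(A.N, V)) (h : kap A hW he hη₀ V hη s = kap A hW he hη₀ V hη t) : s = t := by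
  haveI := isDomain_Kη hW
  refine ext_of_res A (Var76.ZeroScheme.eq_of_locally A.N _ _ fun y hy => ?_)
  obtain ⟨U₁, -, hy₁, e₁, he₁⟩ := A.frame y hy.2
  refine ⟨V ⊓ A.U ⊓ U₁, inf_le_left, ⟨hy, hy₁⟩, ?_⟩
  have hη' : eta hW ∈ V ⊓ A.U ⊓ U₁ :=
    (eta_specializes hW (hV hy.1)).mem_open (V ⊓ A.U ⊓ U₁).2 ⟨hy, hy₁⟩
  rw [res_res, res_res]
  have hle : V ⊓ A.U ⊓ U₁ ≤ V := inf_le_left.trans inf_le_left
  rw [← kap_res A hW he hη₀ hle hη' s, ← kap_res A hW he hη₀ hle hη' t] at h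
  obtain ⟨f, hf⟩ := (he₁ (V ⊓ A.U ⊓ U₁) inf_le_right).2 (res A.N hle s)
  obtain ⟨g, hg⟩ := (he₁ (V ⊓ A.U ⊓ U₁) inf_le_right).2 (res A.N hle t)
  dsimp only at hf hg
  rw [← hf, ← hg, kap_smul, kap_smul, kap_res] at h
  rw [← hf, ← hg, gη_injective hW (hle.trans hV) hη'
    (mul_right_cancel₀ (kap_frame_ne_zero A hW he hη₀ he₁ hη'.2) h)]

/-- Sections over an open inside `U` with prescribed coordinate. -/
theorem exists_kap_eq {V : X.Opens} (hV : V ≤ W) (hVU : V ≤ A.U) (hη : eta hW ∈ V) {c : Kη hW}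
    (hc : ∀ y (hy : y ∈ V), ∃ (U₁ : X.Opens) (hy₁ : y ∈ U₁) (e₁ : Γ(A.N, U₁)) (_ : IsFrame A.N U₁ e₁)
      (d : Kη hW), Reg hW (hV hy) d ∧
        c = d * kap A hW he hη₀ U₁ ((eta_specializes hW (hV hy)).mem_open U₁.2 hy₁) e₁) :
    ∃ s : Γ(A.N, V), kap A hW he hη₀ V hη s = c := by
  have hloc : ∀ y : V, ∃ (V' : X.Opens) (hle : V' ≤ V) (t : Γ(A.N, V')), y.1 ∈ V' ∧
      ∀ hη' : eta hW ∈ V', kap A hW he hη₀ V' hη' t = c := by
    intro y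
    obtain ⟨U₁, hy₁, e₁, he₁, d, ⟨r, hr⟩, hcd⟩ := hc y.1 y.2
    obtain ⟨V₁, hyV₁, f, rfl⟩ := X.presheaf.exists_germ_eq r
    refine ⟨V₁ ⊓ U₁ ⊓ V, inf_le_right,
      X.presheaf.map (homOfLE (inf_le_left.trans inf_le_left : V₁ ⊓ U₁ ⊓ V ≤ V₁)).op f •
        res A.N (inf_le_left.trans inf_le_right) e₁, ⟨⟨hyV₁, hy₁⟩, y.2⟩, fun hη' => ?_⟩
    rw [kap_smul, kap_res, gη_res, hcd, ← hr, sp_germ]
  choose V' hle t hmem ht using hloc
  obtain ⟨F, hF, -⟩ := TopCat.Sheaf.existsUnique_gluing' ⟨A.N.presheaf, A.N.isSheaf⟩ V' V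
    (fun y => homOfLE (hle y)) (fun y hy => Opens.mem_iSup.2 ⟨⟨y, hy⟩, hmem ⟨y, hy⟩⟩) t
    (fun y y' => by
      by_cases h : ∃ z, z ∈ V' y ⊓ V' y'
      · obtain ⟨z, hz⟩ := h
        have hη' : eta hW ∈ V' y ⊓ V' y' :=
          (eta_specializes hW (hV (hle y hz.1))).mem_open (V' y ⊓ V' y').2 hz
        refine kap_injective A hW he hη₀ (inf_le_left.trans ((hle y).trans hV)) hη'
          (hVU (hle y hη'.1)) _ _ ?_
        exact ((kap_res A hW he hη₀ inf_le_left hη' (t y)).trans (ht y hη'.1)).trans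
          ((kap_res A hW he hη₀ inf_le_right hη' (t y')).trans (ht y' hη'.2)).symm
      · exact Var76.ZeroScheme.eq_of_locally A.N _ _ fun z hz => (h ⟨z, hz⟩).elim)
  refine ⟨F, ?_⟩
  have hmem' := hmem ⟨eta hW, hη⟩
  rw [← ht ⟨eta hW, hη⟩ hmem', ← hF ⟨eta hW, hη⟩]
  exact (kap_res A hW he hη₀ (hle _) hmem' F).symm

end Groth.Agent.Curves2.Ufd
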