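import Groth.Agent.Curves2.Ufd.Lattice

/-!
# The extension is invertible
-/

set_option autoImplicit false
set_option linter.style.haveILetI false

universe u

open CategoryTheory AlgebraicGeometry TopologicalSpace IsLocalRing Topology
open Groth.Agent.Var76.LineBundle

noncomputable section

namespace Groth.Agent.Curves2.Ufd

variable {X : Scheme.{u}} [IsLocallyNoetherian X] (A : Ambient X)
  (hufd : ∀ x : X, x ∉ A.U → UniqueFactorizationMonoid (X.presheaf.stalk x))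
  {W : X.Opens} (hW : IsAffineOpen W) [IsDomain Γ(X, W)] (hη : eta hW ∈ A.U)
  {U₀ : X.Opens} {e : Γ(A.N, U₀)} (he : IsFrame A.N U₀ e) (hη₀ : eta hW ∈ U₀)

include he hη₀ in
theorem isOpen_goodSet (g : Kη hW) :
    IsOpen {y : X | ∃ (hy : y ∈ W) (_ : y ∈ A.U), GoodAt A hW hη he hη₀ g hy} := by
  refine isOpen_iff_forall_mem_open.2 fun y ⟨hy, hyU, u, ⟨r, hr, hru⟩, hg⟩ => ?_
  obtain ⟨V₁, hyV₁, f, rfl⟩ := X.presheaf.exists_germ_eq r
  refine ⟨(X.basicOpen f ⊓ frOpen (genFrame_of_mem hyU) ⊓ (W ⊓ A.U) : X.Opens), ?_,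
    Opens.isOpen _, ⟨⟨(X.mem_basicOpen f y hyV₁).2 hr, mem_frOpen _ hyU⟩, hy, hyU⟩⟩
  rintro z ⟨⟨hzf, hzF⟩, hzW, hzU⟩
  obtain ⟨v, hv, hv'⟩ := exists_rUnit_mul A hW he hη₀ (isFrame_fr (genFrame_of_mem hyU))
    (isFrame_fr (genFrame_of_mem hzU)) hzW hzF (mem_frOpen _ hzU)
  refine ⟨hzW, hzU, u * v, RUnit.mul hW ?_ hv, ?_⟩
  · refine ⟨X.presheaf.germ V₁ z (X.basicOpen_le f hzf) f,
      (X.mem_basicOpen f z (X.basicOpen_le f hzf)).1 hzf, ?_⟩
    exact (sp_germ hW hzW V₁ _ f).trans ((sp_germ hW hy V₁ hyV₁ f).symm.trans hru)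
  · rw [hg, mul_assoc]
    exact congrArg (u * ·) hv'

include hufd he hη₀ hη in
/-- Near a point outside `U` all chosen frames are unit multiples of one rational coordinate. -/
theorem exists_nhd (hU₀ : U₀ ≤ A.U) {x : X} (hx : x ∈ W) (hxU : x ∉ A.U) :
    ∃ (g : Kη hW) (W' : X.Opens) (hle : W' ≤ W), x ∈ W' ∧ g ≠ 0 ∧
      ∀ (p : X) (hp : p ∈ W'), (p ∈ A.U ∨ ringKrullDim (X.presheaf.stalk p) ≤ 1) →
        GoodAt A hW hη he hη₀ g (hle hp) := by
  classical
  obtain ⟨g, hg0, hg⟩ := exists_goodAt A hufd hW hη he hη₀ hU₀ hx hxU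
  let B₁ : Set X := ((W : Set X) ∩ A.U) ∩
    {y : X | ∃ (hy : y ∈ W) (_ : y ∈ A.U), GoodAt A hW hη he hη₀ g hy}ᶜ
  have hB₁ : IsLocallyConstructible B₁ :=
    (An92.Rat.isLocallyConstructible_of_isOpen (W.2.inter A.U.2)).inter
      (isLocallyConstructible_of_isClosed (isOpen_goodSet A hW hη he hη₀ g).isClosed_compl)
  have hx₁ : x ∉ closure B₁ := fun hc => by
    obtain ⟨z, ⟨⟨hzW, hzU⟩, hbad⟩, hzx⟩ := E4O.exists_specializes_of_mem_closure_isLocallyConstructible hB₁ hc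
    exact hbad ⟨hzW, hzU, hg z hzx (Or.inl hzU)⟩
  let C : Set X := {p | p ∈ W ∧ p ∉ A.U ∧ ringKrullDim (X.presheaf.stalk p) ≤ 1}
  have hC : C.Finite := by
    have : IsNoetherianRing Γ(X, W) := IsLocallyNoetherian.component_noetherian ⟨W, hW⟩
    let S : Set (PrimeSpectrum Γ(X, W)) := hW.fromSpec ⁻¹' (A.U : Set X)ᶜ
    let J : Ideal Γ(X, W) := PrimeSpectrum.vanishingIdeal S
    let φ : X → Ideal Γ(X, W) := fun p => if hp : p ∈ W then (hW.primeIdealOf ⟨p, hp⟩).asIdeal else ⊥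
    refine Set.Finite.of_finite_image (f := φ) ?_ ?_
    · refine (Ideal.finite_minimalPrimes_of_isNoetherianRing Γ(X, W) J).subset ?_
      rintro _ ⟨p, ⟨hp, hpU, hd⟩, rfl⟩
      simp only [φ, dif_pos hp]
      have hclosed : IsClosed S :=
        A.U.2.isClosed_compl.preimage hW.fromSpec.continuous
      have hzero : PrimeSpectrum.zeroLocus (J : Set Γ(X, W)) = S := by
        rw [PrimeSpectrum.zeroLocus_vanishingIdeal_eq_closure, hclosed.closure_eq]
      refine ⟨⟨(hW.primeIdealOf ⟨p, hp⟩).2, ?_⟩, fun Q ⟨hQ, hJQ⟩ hQP => ?_⟩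
      · have : hW.primeIdealOf ⟨p, hp⟩ ∈ PrimeSpectrum.zeroLocus (J : Set Γ(X, W)) := by
          rw [hzero]
          show hW.fromSpec _ ∈ (A.U : Set X)ᶜ
          rw [hW.fromSpec_primeIdealOf]
          exact hpU
        exact this
      · have hzU : hW.fromSpec ⟨Q, hQ⟩ ∉ A.U := by
          have h1 : (⟨Q, hQ⟩ : PrimeSpectrum Γ(X, W)) ∈ PrimeSpectrum.zeroLocus (J : Set Γ(X, W)) := hJQ
          rw [hzero] at h1
          exact h1
        have hzp : hW.fromSpec ⟨Q, hQ⟩ ⤳ p := by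
          have h1 := ((PrimeSpectrum.le_iff_specializes ⟨Q, hQ⟩ (hW.primeIdealOf ⟨p, hp⟩)).1 hQP).map
            hW.fromSpec.continuous
          rwa [hW.fromSpec_primeIdealOf] at h1
        have heq := eq_of_dim_le_one hW hp hd hzp fun h => hzU (h ▸ hη)
        have h2 : (⟨Q, hQ⟩ : PrimeSpectrum Γ(X, W)) = hW.primeIdealOf ⟨p, hp⟩ :=
          hW.fromSpec.isOpenEmbedding.injective (heq.trans (hW.fromSpec_primeIdealOf ⟨p, hp⟩).symm)
        exact (congrArg PrimeSpectrum.asIdeal h2).ge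
    · intro p hp q hq h
      simp only [φ, dif_pos hp.1, dif_pos hq.1] at h
      exact (hW.fromSpec_primeIdealOf ⟨p, hp.1⟩).symm.trans
        ((congrArg hW.fromSpec (PrimeSpectrum.ext h)).trans (hW.fromSpec_primeIdealOf ⟨q, hq.1⟩))
  let B₂ : Set X := ⋃ p ∈ C ∩ {p | ∀ hp : p ∈ W, ¬ GoodAt A hW hη he hη₀ g hp}, closure {p}
  have hB₂ : IsClosed B₂ := (hC.inter_of_left _).isClosed_biUnion fun p _ => isClosed_closure
  have hx₂ : x ∉ B₂ := by
    rintro hmem
    obtain ⟨p, ⟨⟨hpW, hpU, hd⟩, hbad⟩, hpx⟩ := Set.mem_iUnion₂.1 hmem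
    exact hbad hpW (hg p (specializes_iff_mem_closure.2 hpx) (Or.inr hd))
  refine ⟨g, W ⊓ ⟨(closure B₁ ∪ B₂)ᶜ, (isClosed_closure.union hB₂).isOpen_compl⟩, inf_le_left,
    ⟨hx, fun h => h.elim hx₁ hx₂⟩, hg0, fun p hp hcase => ?_⟩
  by_contra hbad
  by_cases hpU : p ∈ A.U
  · exact hp.2 (Or.inl (subset_closure ⟨⟨hp.1, hpU⟩, fun ⟨_, _, h⟩ => hbad h⟩))
  · exact hp.2 (Or.inr (Set.mem_iUnion₂.2
      ⟨p, ⟨⟨hp.1, hpU, hcase.resolve_left hpU⟩, fun _ h => hbad h⟩, subset_closure rfl⟩))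

omit hufd [IsLocallyNoetherian X] in
theorem subsingleton_of_eta_notMem (M : X.Modules) {V : X.Opens} (hV : V ≤ W) (h : eta hW ∉ V)
    (s t : Γ(M, V)) : s = t :=
  Var76.ZeroScheme.eq_of_locally M s t fun y hy =>
    (h ((eta_specializes hW (hV hy)).mem_open V.2 hy)).elim

include hufd he hη₀ hη in
theorem exists_frame_extension (hU₀ : U₀ ≤ A.U) {x : X} (hx : x ∈ W) (hxU : x ∉ A.U) :
    ∃ W' : X.Opens, x ∈ W' ∧ ∃ σ : Γ((extension A).mod, W'), IsFrame (extension A).mod W' σ := by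
  obtain ⟨g, W', hle, hxW', hg0, hgood⟩ := exists_nhd A hufd hW hη he hη₀ hU₀ hx hxU
  letI := fieldKη hW
  have hη' : eta hW ∈ W' := (eta_specializes hW hx).mem_open W'.2 hxW'
  obtain ⟨σ₀, hσ₀⟩ := exists_kap_eq A hW he hη₀ (V := W' ⊓ A.U) (inf_le_left.trans hle) inf_le_right
    ⟨hη', hη⟩ (c := g) fun y hy => by
      obtain ⟨u, hu, hgu⟩ := hgood y hy.1 (Or.inl hy.2)
      exact ⟨frOpen (genFrame A hW hη (hle hy.1)), mem_frOpen _ hy.2, fr _, isFrame_fr _, u, hu.reg, hgu⟩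
  obtain ⟨σ, hσ⟩ := (A.bij W').2 σ₀
  have hkσ : ∀ {V : X.Opens} (h : V ≤ W') (hV : eta hW ∈ V),
      kap A hW he hη₀ V hV (res A.N h σ) = g := fun h hV => by
    rw [kap_res A hW he hη₀ h hV, ← hσ₀, ← hσ, kap_res A hW he hη₀ inf_le_left ⟨hη', hη⟩]
  have hmem : σ ∈ (extension A).obj W' := by
    intro p hp hpU hd h
    obtain ⟨u, ⟨r, -, hr⟩, hgu⟩ := hgood p hp (Or.inr hd)
    obtain ⟨V₁, hpV₁, f, rfl⟩ := X.presheaf.exists_germ_eq r
    refine ⟨V₁ ⊓ W', inf_le_right, X.presheaf.map (homOfLE inf_le_left).op f, ⟨hpV₁, hp⟩, ?_⟩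
    have hle' : V₁ ⊓ W' ⊓ frOpen h ≤ W := (inf_le_left.trans inf_le_right).trans hle
    have hη'' : eta hW ∈ V₁ ⊓ W' ⊓ frOpen h :=
      ⟨⟨(eta_specializes hW (hle hp)).mem_open V₁.2 hpV₁, hη'⟩, eta_mem_frOpen hW h (hle hp)⟩
    refine kap_injective A hW he hη₀ hle' hη'' hη _ _ ?_
    rw [hkσ, kap_smul, kap_res, gη_res, gη_res, hgu, ← hr, sp_germ]
    rfl
  refine ⟨W', hxW', (⟨σ, hmem⟩ : (extension A).obj W'), fun V hV => ?_⟩
  by_cases hηV : eta hW ∈ V
  swap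
  · exact ⟨fun a b _ => TopCat.Presheaf.section_ext X.sheaf V a b
      (fun y hy => (hηV ((eta_specializes hW (hle (hV hy))).mem_open V.2 hy)).elim),
      fun t => ⟨0, subsingleton_of_eta_notMem hW _ (hV.trans hle) hηV _ t⟩⟩
  refine ⟨fun a b hab => ?_, fun t => ?_⟩
  · have h1 : a • res A.N hV σ = b • res A.N hV σ := congrArg Subtype.val hab
    have h2 := congrArg (kap A hW he hη₀ V hηV) h1
    rw [kap_smul, kap_smul, hkσ] at h2
    exact gη_injective hW (hV.trans hle) hηV (mul_right_cancel₀ hg0 h2)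
  · obtain ⟨s, hs⟩ : ∃ s : Γ(A.N, V), s = (show (extension A).obj V from t).1 := ⟨_, rfl⟩
    set c := kap A hW he hη₀ V hηV s
    have hregU : ∀ (y : X) (hy : y ∈ V), (y ∈ A.U ∨ ringKrullDim (X.presheaf.stalk y) ≤ 1) →
        Reg hW (hle (hV hy)) (c / g) := by
      intro y hy hcase
      obtain ⟨u, hu, hgu⟩ := hgood y (hV hy) hcase
      obtain ⟨d, hd, hud⟩ := hu.exists_mul_eq_one
      obtain ⟨V₁, hV₁, f, hyV₁, hf⟩ : ∃ (V₁ : X.Opens) (hV₁ : V₁ ≤ V) (f : Γ(X, V₁)), y ∈ V₁ ∧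
          res A.N ((inf_le_left : V₁ ⊓ frOpen (genFrame A hW hη (hle (hV hy))) ≤ V₁).trans hV₁) s =
            X.presheaf.map (homOfLE (inf_le_left :
              V₁ ⊓ frOpen (genFrame A hW hη (hle (hV hy))) ≤ V₁)).op f •
              res A.N inf_le_right (fr (genFrame A hW hη (hle (hV hy)))) := by
        by_cases hyU : y ∈ A.U
        · obtain ⟨f, hf⟩ := (isFrame_fr (genFrame A hW hη (hle (hV hy)))
              (V ⊓ frOpen (genFrame A hW hη (hle (hV hy)))) inf_le_right).2 (res A.N inf_le_left s)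
          refine ⟨V ⊓ frOpen (genFrame A hW hη (hle (hV hy))), inf_le_left, f, ⟨hy, mem_frOpen _ hyU⟩, ?_⟩
          have h1 := congrArg (res A.N (inf_le_left :
            V ⊓ frOpen (genFrame A hW hη (hle (hV hy))) ⊓ frOpen (genFrame A hW hη (hle (hV hy))) ≤
              V ⊓ frOpen (genFrame A hW hη (hle (hV hy))))) hf
          dsimp only at h1
          rw [res_smul, res_res, res_res] at h1
          exact h1.symm
        · obtain ⟨V₁, hV₁, f, hyV₁, hf⟩ :=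
            (show (extension A).obj V from t).2 y hy hyU (hcase.resolve_left hyU) (genFrame A hW hη (hle (hV hy)))
          rw [← hs] at hf
          exact ⟨V₁, hV₁, f, hyV₁, hf⟩
      have hη₁ : eta hW ∈ V₁ := (eta_specializes hW (hle (hV hy))).mem_open V₁.2 hyV₁
      have h2 := congrArg (kap A hW he hη₀ (V₁ ⊓ frOpen (genFrame A hW hη (hle (hV hy)))) ⟨hη₁, eta_mem_frOpen hW _ (hle (hV hy))⟩) hf
      rw [kap_res, kap_smul, kap_res, gη_res] at h2
      have h3 : c / g = gη hW V₁ hη₁ f * d := by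
        rw [div_eq_iff hg0, hgu]
        calc c = gη hW V₁ hη₁ f * lam A hW he hη₀ _ (hle (hV hy)) := h2
          _ = gη hW V₁ hη₁ f * (u * d) * lam A hW he hη₀ _ (hle (hV hy)) := by rw [hud, mul_one]
          _ = _ := by ring
      rw [h3]
      exact (reg_gη hW (hle (hV hy)) hyV₁ f).mul hW hd.reg
    obtain ⟨a, ha⟩ := exists_section hW (hV.trans hle) hηV (c := c / g) fun y hy => by
      by_cases hyU : y ∈ A.U
      · exact hregU y hy (Or.inl hyU)
      have hyW : y ∈ W := hle (hV hy)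
      haveI := hufd y hyU
      haveI := isDomain_stalk hW hyW
      have hcl : X.fromSpecStalk y (closedPoint (X.presheaf.stalk y)) = y := Scheme.fromSpecStalk_closedPoint
      have key := reg_of_prime hW hyW (closedPoint (X.presheaf.stalk y)) (specializes_of_eq hcl)
        (c := c / g) fun π hπ q hq _ hq' =>
          hregU _ (hq'.mem_open V.2 hy) (Or.inr (ringKrullDim_le_one_of_span hW hyW π hπ q hq hq'))
      obtain ⟨r, hr⟩ := key
      refine ⟨X.presheaf.stalkSpecializes (specializes_of_eq hcl.symm) r, ?_⟩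
      rw [← hr]
      exact congr($(TopCat.Presheaf.stalkSpecializes_comp X.presheaf (eta_specializes hW hyW)
        (specializes_of_eq hcl.symm)) r)
    refine ⟨a, Subtype.ext ?_⟩
    show a • res A.N hV σ = (show (extension A).obj V from t).1
    rw [← hs]
    refine kap_injective A hW he hη₀ (hV.trans hle) hηV hη _ _ ?_
    rw [kap_smul, hkσ, ha, div_mul_cancel₀ c hg0]

omit hW hη he hη₀ [IsDomain Γ(X, W)] in
include hufd in
/-- Extension across points with factorial local rings, for a dense open. -/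
theorem isInvertible_extension (hd : Dense (A.U : Set X)) : PicF.IsInvertible (extension A).mod := by
  refine Mero90.isInvertible_of_frames fun x => ?_
  by_cases hxU : x ∈ A.U
  · obtain ⟨V, hV, hxV, e, he⟩ := A.frame x hxU
    exact ⟨V, hxV, _, isFrame_of_le A hV he⟩
  haveI := hufd x hxU
  haveI : IsDomain (X.presheaf.stalk x) := NoZeroDivisors.to_isDomain _
  obtain ⟨W, hx, hW, hinj⟩ := X.exists_germ_injective x
  haveI : IsDomain Γ(X, W) := Function.Injective.isDomain _ hinj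
  have hη : eta hW ∈ A.U := by
    obtain ⟨z, hzW, hzU⟩ := hd.inter_open_nonempty W W.2 ⟨x, hx⟩
    exact (eta_specializes hW hzW).mem_open A.U.2 hzU
  obtain ⟨U₀, hU₀, hη₀, e, he⟩ := A.frame _ hη
  exact exists_frame_extension A hufd hW hη he hη₀ hU₀ hx hxU

end Groth.Agent.Curves2.Ufd
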