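import Mathlib.RingTheory.UniqueFactorizationDomain.Basic
import Mathlib.RingTheory.Localization.NumDen
import Mathlib.RingTheory.UniqueFactorizationDomain.Multiplicity
import Mathlib.RingTheory.Localization.FractionRing
import Mathlib.RingTheory.Ideal.Operations
import Mathlib.Tactic.Ring
import Mathlib.Tactic.FieldSimp

/-!
# Fractions over a unique factorisation domain

An element of the fraction field whose denominator avoids every prime element of a prime ideal has a
denominator avoiding that prime ideal.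
-/

set_option autoImplicit false

universe u v

namespace Groth.Agent.Curves2.Ufd

variable {R : Type u} [CommRing R] [IsDomain R] {K : Type v} [Field K] [Algebra R K]
  [IsFractionRing R K]

/-- `c` has a fraction with denominator outside `P`. -/
def RegP (P : Ideal R) (c : K) : Prop :=
  ∃ a b : R, b ∉ P ∧ algebraMap R K b * c = algebraMap R K a

theorem RegP.mono {P Q : Ideal R} (h : Q ≤ P) {c : K} (hc : RegP P c) : RegP Q c := by
  obtain ⟨a, b, hb, h'⟩ := hc
  exact ⟨a, b, fun hbQ => hb (h hbQ), h'⟩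

theorem RegP.mul {P : Ideal R} (hP : P.IsPrime) {c d : K} (hc : RegP P c) (hd : RegP P d) :
    RegP P (c * d) := by
  obtain ⟨a, b, hb, h⟩ := hc
  obtain ⟨a', b', hb', h'⟩ := hd
  refine ⟨a * a', b * b', fun hbb => (hP.mem_or_mem hbb).elim hb hb', ?_⟩
  rw [map_mul, map_mul, ← h, ← h']
  ring

/-- A fraction with denominators avoiding all primes of `P` has a denominator avoiding `P`. -/
theorem regP_of_forall_prime [UniqueFactorizationMonoid R] {P : Ideal R} (hP : P.IsPrime) {c : K}
    (h : ∀ π : R, Prime π → π ∈ P → RegP (Ideal.span {π}) c) : RegP P c := by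
  obtain ⟨a, ⟨b, hb⟩, hrel, hc⟩ := IsFractionRing.exists_reduced_fraction R c
  have hbc : algebraMap R K b * c = algebraMap R K a := by
    rw [← hc, mul_comm]
    exact IsLocalization.mk'_spec K a ⟨b, hb⟩
  refine ⟨a, b, fun hbP => ?_, hbc⟩
  have hb0 : b ≠ 0 := nonZeroDivisors.ne_zero hb
  obtain ⟨π, hπP, hπb⟩ : ∃ π, π ∈ P ∧ π ∈ UniqueFactorizationMonoid.factors b := by
    obtain ⟨u, hu⟩ := UniqueFactorizationMonoid.factors_prod hb0
    have h1 : (UniqueFactorizationMonoid.factors b).prod ∈ P := by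
      rcases hP.mem_or_mem (show (UniqueFactorizationMonoid.factors b).prod * ↑u ∈ P by rwa [hu]) with
        h1 | h1
      · exact h1
      · exact (hP.ne_top (Ideal.eq_top_of_isUnit_mem _ h1 u.isUnit)).elim
    obtain ⟨π, hπ, hπP⟩ := (hP.multiset_prod_mem_iff_exists_mem _).1 h1
    exact ⟨π, hπP, hπ⟩
  have hπ := UniqueFactorizationMonoid.prime_of_factor π hπb
  have hdvd : π ∣ b := UniqueFactorizationMonoid.dvd_of_mem_factors hπb
  obtain ⟨a', b', hb', h'⟩ := h π hπ hπP
  have heq : b' * a = a' * b := IsFractionRing.injective R K (by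
    rw [map_mul, map_mul, ← hbc, ← h']; ring)
  have hπa : π ∣ a := (hπ.dvd_or_dvd (show π ∣ b' * a by rw [heq]; exact hdvd.mul_left a')).resolve_left
    fun hd => hb' (Ideal.mem_span_singleton.2 hd)
  exact hπ.not_unit (hrel hπa hdvd)

/-- `c` and `c⁻¹` both have denominators outside `P`. -/
def UnitP (P : Ideal R) (c : K) : Prop := RegP P c ∧ RegP P c⁻¹

theorem unitP_one {P : Ideal R} (hP : P ≠ ⊤) : UnitP P (1 : K) := by
  have h1 : (1 : R) ∉ P := fun h => hP ((Ideal.eq_top_iff_one P).2 h)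
  exact ⟨⟨1, 1, h1, mul_one _⟩, ⟨1, 1, h1, by rw [inv_one, mul_one]⟩⟩

theorem UnitP.mul {P : Ideal R} (hP : P.IsPrime) {c d : K} (hc : UnitP P c) (hd : UnitP P d) :
    UnitP P (c * d) :=
  ⟨hc.1.mul hP hd.1, by rw [mul_inv]; exact hc.2.mul hP hd.2⟩

theorem UnitP.inv {P : Ideal R} {c : K} (hc : UnitP P c) : UnitP P c⁻¹ :=
  ⟨hc.2, by rw [inv_inv]; exact hc.1⟩

theorem unitP_algebraMap {P : Ideal R} (hP : P ≠ ⊤) {r : R} (hr : r ∉ P) :
    UnitP P (algebraMap R K r) := by
  have h1 : (1 : R) ∉ P := fun h => hP ((Ideal.eq_top_iff_one P).2 h)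
  refine ⟨⟨r, 1, h1, by rw [map_one, one_mul]⟩, ⟨1, r, hr, ?_⟩⟩
  rw [map_one, mul_inv_cancel₀]
  exact fun h0 => hr (by
    rw [IsFractionRing.injective R K (h0.trans (map_zero _).symm)]
    exact P.zero_mem)

/-- Every nonzero element of the fraction field is, at a prime `π`, a power of `π` up to units. -/
theorem exists_zpow_unitP [UniqueFactorizationMonoid R] {π : R} (hπ : Prime π) {c : K} (hc : c ≠ 0) :
    ∃ n : ℤ, UnitP (Ideal.span {π}) (c / (algebraMap R K π) ^ n) := by
  obtain ⟨a, b, hb, hab⟩ := IsFractionRing.div_surjective (A := R) c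
  have ha0 : a ≠ 0 := by rintro rfl; rw [map_zero, zero_div] at hab; exact hc hab.symm
  obtain ⟨i, a', ha', rfl⟩ := WfDvdMonoid.max_power_factor ha0 hπ.irreducible
  obtain ⟨j, b', hb', rfl⟩ := WfDvdMonoid.max_power_factor (nonZeroDivisors.ne_zero hb) hπ.irreducible
  have hP : (Ideal.span {π}).IsPrime := (Ideal.span_singleton_prime hπ.ne_zero).2 hπ
  have hna : a' ∉ Ideal.span {π} := fun h => ha' (Ideal.mem_span_singleton.1 h)
  have hnb : b' ∉ Ideal.span {π} := fun h => hb' (Ideal.mem_span_singleton.1 h)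
  refine ⟨(i : ℤ) - j, ?_⟩
  have hπ0 : algebraMap R K π ≠ 0 := fun h =>
    hπ.ne_zero (IsFractionRing.injective R K (h.trans (map_zero _).symm))
  have : c / (algebraMap R K π) ^ ((i : ℤ) - j) = algebraMap R K a' * (algebraMap R K b')⁻¹ := by
    rw [← hab, map_mul, map_mul, map_pow, map_pow, zpow_sub₀ hπ0, zpow_natCast, zpow_natCast]
    have hb0 : algebraMap R K b' ≠ 0 := fun h =>
      hnb (by rw [IsFractionRing.injective R K (h.trans (map_zero _).symm)]; exact zero_mem _)
    field_simp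
  rw [this]
  exact (unitP_algebraMap hP.ne_top hna).mul hP (unitP_algebraMap hP.ne_top hnb).inv

/-- Prescribed orders at finitely many primes, units at the others. -/
theorem exists_unitP_div [UniqueFactorizationMonoid R] (lam : ∀ π : R, Prime π → K)
    (hlam : ∀ π hπ, lam π hπ ≠ 0) {j : R} (hj : j ≠ 0)
    (hout : ∀ π hπ, ¬ π ∣ j → UnitP (Ideal.span {π}) (lam π hπ))
    (hcongr : ∀ π π' hπ hπ', Associated π π' → UnitP (Ideal.span {π}) (lam π hπ / lam π' hπ')) :
    ∃ g : K, g ≠ 0 ∧ ∀ π hπ, UnitP (Ideal.span {π}) (g / lam π hπ) := by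
  suffices ∀ s : Multiset R, (∀ p ∈ s, Prime p) →
      ∃ g : K, g ≠ 0 ∧ ∀ π hπ, (∃ p ∈ s, Associated π p) ∧ UnitP (Ideal.span {π}) (g / lam π hπ) ∨
        (¬ ∃ p ∈ s, Associated π p) ∧ UnitP (Ideal.span {π}) g by
    obtain ⟨g, hg, hgp⟩ := this (UniqueFactorizationMonoid.factors j)
      fun p hp => UniqueFactorizationMonoid.prime_of_factor p hp
    refine ⟨g, hg, fun π hπ => ?_⟩
    rcases hgp π hπ with ⟨-, h⟩ | ⟨hno, h⟩
    · exact h
    · rw [div_eq_mul_inv]
      refine h.mul ((Ideal.span_singleton_prime hπ.ne_zero).2 hπ) (hout π hπ fun hdvd => hno ?_).inv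
      obtain ⟨p, hp, hpp⟩ := UniqueFactorizationMonoid.exists_mem_factors_of_dvd hj hπ.irreducible hdvd
      exact ⟨p, hp, hpp⟩
  intro s
  induction s using Multiset.induction_on with
  | empty =>
    exact fun _ => ⟨1, one_ne_zero, fun π hπ => Or.inr ⟨by simp,
      unitP_one ((Ideal.span_singleton_prime hπ.ne_zero).2 hπ).ne_top⟩⟩
  | cons p s ih =>
    intro hs
    obtain ⟨g, hg, hgp⟩ := ih fun q hq => hs q (Multiset.mem_cons_of_mem hq)
    have hp := hs p (Multiset.mem_cons_self p s)
    by_cases hin : ∃ q ∈ s, Associated p q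
    · obtain ⟨q, hq, hpq⟩ := hin
      refine ⟨g, hg, fun π hπ => ?_⟩
      rcases hgp π hπ with ⟨⟨r, hr, hπr⟩, h⟩ | ⟨hno, h⟩
      · exact Or.inl ⟨⟨r, Multiset.mem_cons_of_mem hr, hπr⟩, h⟩
      · refine Or.inr ⟨fun ⟨r, hr, hπr⟩ => ?_, h⟩
        rcases Multiset.mem_cons.1 hr with rfl | hr
        · exact hno ⟨q, hq, hπr.trans hpq⟩
        · exact hno ⟨r, hr, hπr⟩
    · obtain ⟨n, hn⟩ := exists_zpow_unitP hp (div_ne_zero (hlam p hp) hg)
      have hp0 : algebraMap R K p ≠ 0 := fun h =>
        hp.ne_zero (IsFractionRing.injective R K (h.trans (map_zero _).symm))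
      refine ⟨g * (algebraMap R K p) ^ n, mul_ne_zero hg (zpow_ne_zero _ hp0), fun π hπ => ?_⟩
      have hPπ : (Ideal.span {π}).IsPrime := (Ideal.span_singleton_prime hπ.ne_zero).2 hπ
      by_cases hπp : Associated π p
      · refine Or.inl ⟨⟨p, Multiset.mem_cons_self p s, hπp⟩, ?_⟩
        have hspan : (Ideal.span {π} : Ideal R) = Ideal.span {p} :=
          Ideal.span_singleton_eq_span_singleton.2 hπp
        have h1 : UnitP (Ideal.span {π}) (lam p hp / g / (algebraMap R K p) ^ n) := hspan ▸ hn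
        have h2 := h1.inv.mul hPπ (hcongr π p hπ hp hπp).inv
        convert h2 using 1
        have := hlam p hp
        have := hlam π hπ
        have := zpow_ne_zero n hp0
        field_simp
      · have hunit : UnitP (Ideal.span {π}) ((algebraMap R K p) ^ n) := by
          have h1 : UnitP (Ideal.span {π}) (algebraMap R K p) :=
            unitP_algebraMap hPπ.ne_top fun h =>
              hπp (hπ.irreducible.associated_of_dvd hp.irreducible (Ideal.mem_span_singleton.1 h))
          clear hn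
          induction n using Int.induction_on with
          | zero => simpa using unitP_one hPπ.ne_top
          | succ i hi => rw [zpow_add_one₀ hp0]; exact hi.mul hPπ h1
          | pred i hi => rw [zpow_sub_one₀ hp0]; exact hi.mul hPπ h1.inv
        rcases hgp π hπ with ⟨⟨r, hr, hπr⟩, h⟩ | ⟨hno, h⟩
        · refine Or.inl ⟨⟨r, Multiset.mem_cons_of_mem hr, hπr⟩, ?_⟩
          rw [mul_div_right_comm]
          exact h.mul hPπ hunit
        · refine Or.inr ⟨fun ⟨r, hr, hπr⟩ => ?_, h.mul hPπ hunit⟩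
          rcases Multiset.mem_cons.1 hr with rfl | hr
          · exact hπp hπr
          · exact hno ⟨r, hr, hπr⟩

end Groth.Agent.Curves2.Ufd
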