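import Groth.Agent.Curves2.Ufd.Coord
import Groth.Agent.QC70.SubMod
import Groth.Agent.An92.Rat.SectionExt
import Groth.Agent.E4O.GenOpen
import Groth.Agent.Mero90.Frames
import Mathlib.RingTheory.Ideal.MinimalPrime.Noetherian

/-!
# Extending invertible modules across points with factorial local rings
-/

set_option autoImplicit false
set_option linter.style.haveILetI false

universe u

open CategoryTheory AlgebraicGeometry TopologicalSpace IsLocalRing Topology
open Groth.Agent.Var76.LineBundle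

noncomputable section

namespace Groth.Agent.Curves2.Ufd

variable {X : Scheme.{u}}

theorem isLocallyConstructible_of_isClosed [IsLocallyNoetherian X] {s : Set X} (hs : IsClosed s) :
    IsLocallyConstructible s := by
  intro z
  obtain ⟨W, hW, hzW, -⟩ :=
    exists_isAffineOpen_mem_and_subset (U := (⊤ : X.Opens)) (Opens.mem_top z)
  have : IsNoetherianRing Γ(X, W) := IsLocallyNoetherian.component_noetherian ⟨W, hW⟩
  have : TopologicalSpace.NoetherianSpace (W : Set X) := noetherianSpace_of_isAffineOpen W hW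
  refine ⟨W, W.2.mem_nhds hzW, W.2, IsConstructible.of_compl ?_⟩
  exact IsRetrocompact.isConstructible (hs.preimage continuous_subtype_val).isOpen_compl
    fun t _ _ => NoetherianSpace.isCompact _

section Points

variable {W : X.Opens} (hW : IsAffineOpen W) [IsDomain Γ(X, W)]

include hW in
theorem exists_bot {y : X} (hy : y ∈ W) :
    ∀ [IsDomain (X.presheaf.stalk y)], X.fromSpecStalk y ⟨⊥, Ideal.isPrime_bot⟩ = eta hW := by
  intro _
  obtain ⟨q, hq⟩ : eta hW ∈ Set.range (X.fromSpecStalk y) := by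
    rw [Scheme.range_fromSpecStalk]; exact eta_specializes hW hy
  refine eq_eta_of_specializes hW (hq ▸ ?_)
  exact ((PrimeSpectrum.le_iff_specializes ⟨⊥, Ideal.isPrime_bot⟩ q).1 bot_le).map
    (X.fromSpecStalk y).continuous

include hW in
theorem eq_of_dim_le_one {p z : X} (hp : p ∈ W) (hd : ringKrullDim (X.presheaf.stalk p) ≤ 1)
    (hz : z ⤳ p) (hne : z ≠ eta hW) : z = p := by
  have := isDomain_stalk hW hp
  have : Ring.KrullDimLE 1 (X.presheaf.stalk p) := Ring.krullDimLE_iff.mpr hd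
  obtain ⟨q, rfl⟩ : z ∈ Set.range (X.fromSpecStalk p) := by rw [Scheme.range_fromSpecStalk]; exact hz
  have hq : q.asIdeal ≠ ⊥ := fun h => hne (by
    rw [show q = ⟨⊥, Ideal.isPrime_bot⟩ from PrimeSpectrum.ext h]
    exact exists_bot hW hp)
  have hmax := Ring.krullDimLE_one_iff_of_noZeroDivisors.mp this q.asIdeal hq q.2
  rw [show q = closedPoint (X.presheaf.stalk p) from PrimeSpectrum.ext (IsLocalRing.eq_maximalIdeal hmax)]
  exact Scheme.fromSpecStalk_closedPoint

variable {x : X} (hx : x ∈ W)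

include hW hx in
/-- Regularity at a point follows from regularity at the height one points below it. -/
theorem reg_of_prime [UniqueFactorizationMonoid (X.presheaf.stalk x)]
    (p : PrimeSpectrum (X.presheaf.stalk x)) (hp : X.fromSpecStalk x p ⤳ x) {c : Kη hW}
    (h : ∀ (π : X.presheaf.stalk x) (_ : Prime π) (q : PrimeSpectrum (X.presheaf.stalk x)),
      q.asIdeal = Ideal.span {π} → π ∈ p.asIdeal →
      ∀ hq : X.fromSpecStalk x q ⤳ x, Reg hW (mem_of_specializes hx hq) c) :
    Reg hW (mem_of_specializes hx hp) c := by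
  haveI := isDomain_stalk hW hx
  letI := (sp hW hx).toAlgebra
  letI := fieldKη hW
  haveI := isFractionRing_stalk hW hx
  obtain ⟨a, b, hb, hab⟩ := regP_of_forall_prime (K := Kη hW) p.2 (c := c) fun π hπ hπp => by
    let q : PrimeSpectrum (X.presheaf.stalk x) :=
      ⟨Ideal.span {π}, (Ideal.span_singleton_prime hπ.ne_zero).2 hπ⟩
    have hq : X.fromSpecStalk x q ⤳ x := by
      have : X.fromSpecStalk x q ∈ Set.range (X.fromSpecStalk x) := ⟨q, rfl⟩
      rwa [Scheme.range_fromSpecStalk] at this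
    exact regP_of_reg hW hx q hq (h π hπ q rfl hπp hq)
  refine reg_of_fraction hW hx hp ?_ hab
  rw [← comap_maximalIdeal_stalkSpecializes p hp, Ideal.mem_comap, IsLocalRing.mem_maximalIdeal,
    mem_nonunits_iff, not_not] at hb
  exact hb

include hW in
theorem rUnit_iff {y : X} (hy : y ∈ W) {c : Kη hW} :
    RUnit hW hy c ↔ ∃ d, Reg hW hy c ∧ Reg hW hy d ∧ c * d = 1 := by
  constructor
  · intro h
    obtain ⟨d, hd, hcd⟩ := h.exists_mul_eq_one
    exact ⟨d, h.reg, hd.reg, hcd⟩
  · rintro ⟨d, ⟨r, rfl⟩, ⟨s, rfl⟩, h⟩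
    refine ⟨r, IsUnit.of_mul_eq_one s (sp_injective hW hy ?_), rfl⟩
    rw [map_mul, h, map_one]

end Points

variable (A : Ambient X)

/-- A frame usable at `p`. -/
def GenFrame (p : X) : Prop :=
  ∃ (V : X.Opens) (e : Γ(A.N, V)), V ≤ A.U ∧ IsFrame A.N V e ∧ (p ∈ A.U → p ∈ V) ∧
    ∀ z : X, (∀ z' : X, z' ⤳ z → z' = z) → z ⤳ p → z ∈ V

variable {A}

/-- The domain of the chosen frame. -/
def frOpen {p : X} (h : GenFrame A p) : X.Opens := h.choose

/-- The chosen frame. -/
def fr {p : X} (h : GenFrame A p) : Γ(A.N, frOpen h) := h.choose_spec.choose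

theorem frOpen_le {p : X} (h : GenFrame A p) : frOpen h ≤ A.U := h.choose_spec.choose_spec.1

theorem isFrame_fr {p : X} (h : GenFrame A p) : IsFrame A.N (frOpen h) (fr h) :=
  h.choose_spec.choose_spec.2.1

theorem mem_frOpen {p : X} (h : GenFrame A p) (hp : p ∈ A.U) : p ∈ frOpen h :=
  h.choose_spec.choose_spec.2.2.1 hp

theorem gen_mem_frOpen {p : X} (h : GenFrame A p) {z : X} (hz : ∀ z' : X, z' ⤳ z → z' = z)
    (hzp : z ⤳ p) : z ∈ frOpen h := h.choose_spec.choose_spec.2.2.2 z hz hzp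

theorem eta_mem_frOpen {W : X.Opens} (hW : IsAffineOpen W) [IsDomain Γ(X, W)] {p : X}
    (h : GenFrame A p) (hp : p ∈ W) : eta hW ∈ frOpen h :=
  gen_mem_frOpen h (fun _ hz => eq_eta_of_specializes hW hz) (eta_specializes hW hp)

theorem genFrame_of_mem {p : X} (hp : p ∈ A.U) : GenFrame A p := by
  obtain ⟨V, hV, hpV, e, he⟩ := A.frame p hp
  exact ⟨V, e, hV, he, fun _ => hpV, fun z _ hz => hz.mem_open V.2 hpV⟩

theorem genFrame_of_notMem {W : X.Opens} (hW : IsAffineOpen W) [IsDomain Γ(X, W)]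
    (hη : eta hW ∈ A.U) {p : X} (hp : p ∈ W) (hpU : p ∉ A.U) : GenFrame A p := by
  obtain ⟨V, hV, hηV, e, he⟩ := A.frame _ hη
  exact ⟨V, e, hV, he, fun h => (hpU h).elim, fun z hzmax hz => by
    rw [← hzmax _ (eta_specializes hW (hz.mem_open W.2 hp))]
    exact hηV⟩

variable (A)

/-- `s` lies in the chosen lattice at `p`. -/
def LatticeAt {V : X.Opens} (s : Γ(A.N, V)) {p : X} (h : GenFrame A p) : Prop :=
  ∃ (V' : X.Opens) (hle : V' ≤ V) (f : Γ(X, V')), p ∈ V' ∧
    res A.N ((inf_le_left : V' ⊓ frOpen h ≤ V').trans hle) s =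
      X.presheaf.map (homOfLE (inf_le_left : V' ⊓ frOpen h ≤ V')).op f •
        res A.N inf_le_right (fr h)

/-- The extension: sections in every chosen lattice in codimension one. -/
def extension : QC70.LocalSubmod A.N where
  obj V :=
    { carrier := {s | ∀ p ∈ V, p ∉ A.U → ringKrullDim (X.presheaf.stalk p) ≤ 1 →
        ∀ h : GenFrame A p, LatticeAt A s h}
      zero_mem' := fun p hp _ _ h => ⟨V, le_rfl, 0, hp, by
        rw [map_zero (X.presheaf.map _).hom, zero_smul]; exact map_zero _⟩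
      add_mem' := fun {s t} hs ht p hp hpU hd h => by
        obtain ⟨V₁, hle₁, f, hp₁, h₁⟩ := hs p hp hpU hd h
        obtain ⟨V₂, hle₂, g, hp₂, h₂⟩ := ht p hp hpU hd h
        refine ⟨V₁ ⊓ V₂, inf_le_left.trans hle₁,
          X.presheaf.map (homOfLE inf_le_left).op f + X.presheaf.map (homOfLE inf_le_right).op g,
          ⟨hp₁, hp₂⟩, ?_⟩
        have e₁ := congrArg (res A.N (inf_le_inf_right (frOpen h) (inf_le_left : V₁ ⊓ V₂ ≤ V₁))) h₁
        have e₂ := congrArg (res A.N (inf_le_inf_right (frOpen h) (inf_le_right : V₁ ⊓ V₂ ≤ V₂))) h₂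
        rw [res_res, res_smul, res_res] at e₁ e₂
        rw [Amp73.res_add, map_add, add_smul, e₁, e₂]
        simp only [← ConcreteCategory.comp_apply, ← Functor.map_comp, ← op_comp, homOfLE_comp]
      smul_mem' := fun a s hs p hp hpU hd h => by
        obtain ⟨V₁, hle₁, f, hp₁, h₁⟩ := hs p hp hpU hd h
        refine ⟨V₁, hle₁, X.presheaf.map (homOfLE hle₁).op a * f, hp₁, ?_⟩
        rw [res_smul, h₁, map_mul, mul_smul]
        simp only [← ConcreteCategory.comp_apply, ← Functor.map_comp, ← op_comp, homOfLE_comp] }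
  res_mem {V V'} h s hs p hp hpU hd hf := by
    obtain ⟨V₁, hle₁, f, hp₁, h₁⟩ := hs p (h hp) hpU hd hf
    refine ⟨V₁ ⊓ V', inf_le_right, X.presheaf.map (homOfLE inf_le_left).op f, ⟨hp₁, hp⟩, ?_⟩
    have e₁ := congrArg (res A.N (inf_le_inf_right (frOpen hf) (inf_le_left : V₁ ⊓ V' ≤ V₁))) h₁
    rw [res_res, res_smul, res_res] at e₁
    change res A.N _ (res A.N h s) = _
    rw [res_res, e₁]
    simp only [← ConcreteCategory.comp_apply, ← Functor.map_comp, ← op_comp, homOfLE_comp]
  of_locally {V} s hs p hp hpU hd h := by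
    obtain ⟨V', hle, hpV', hmem⟩ := hs p hp
    obtain ⟨V₁, hle₁, f, hp₁, h₁⟩ := hmem p hpV' hpU hd h
    refine ⟨V₁, hle₁.trans hle, f, hp₁, ?_⟩
    change res A.N _ (res A.N hle s) = _ at h₁
    rwa [res_res] at h₁

theorem extension_obj_eq_top {V : X.Opens} (hV : V ≤ A.U) (s : Γ(A.N, V)) :
    s ∈ (extension A).obj V := fun _ hp hpU _ => absurd (hV hp) hpU

theorem bijective_ι_app {V : X.Opens} (hV : V ≤ A.U) :
    Function.Bijective ((extension A).ι.app V) :=
  ⟨fun _ _ h => Subtype.ext h, fun s => ⟨(⟨s, extension_obj_eq_top A hV s⟩ : (extension A).obj V), rfl⟩⟩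

theorem isFrame_of_le {V : X.Opens} (hV : V ≤ A.U) {e : Γ(A.N, V)} (he : IsFrame A.N V e) :
    IsFrame (extension A).mod V (⟨e, extension_obj_eq_top A hV e⟩ : (extension A).obj V) := by
  intro V' h'
  refine ⟨fun a b hab => (he V' h').1 (congrArg Subtype.val hab), fun t => ?_⟩
  obtain ⟨a, ha⟩ := (he V' h').2 (show (extension A).obj V' from t).1
  exact ⟨a, Subtype.ext ha⟩

variable [IsLocallyNoetherian X]
  (hufd : ∀ x : X, x ∉ A.U → UniqueFactorizationMonoid (X.presheaf.stalk x))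

section Local

variable {W : X.Opens} (hW : IsAffineOpen W) [IsDomain Γ(X, W)] (hη : eta hW ∈ A.U)
  {U₀ : X.Opens} {e : Γ(A.N, U₀)} (he : IsFrame A.N U₀ e) (hη₀ : eta hW ∈ U₀)

/-- The coordinate of the chosen frame at `p`. -/
def lam {p : X} (h : GenFrame A p) (hp : p ∈ W) : Kη hW :=
  kap A hW he hη₀ (frOpen h) (eta_mem_frOpen hW h hp) (fr h)

theorem lam_congr {p q : X} (e' : p = q) (h : GenFrame A p) (h' : GenFrame A q) (hp : p ∈ W)
    (hq : q ∈ W) : lam A hW he hη₀ h hp = lam A hW he hη₀ h' hq := by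
  subst e'; rfl

theorem lam_ne_zero {p : X} (h : GenFrame A p) (hp : p ∈ W) : lam A hW he hη₀ h hp ≠ 0 :=
  kap_frame_ne_zero A hW he hη₀ (isFrame_fr h) _

/-- The chosen coordinates at a generisation agree up to a unit. -/
theorem exists_rUnit_lam {y z : X} (hy : y ∈ W) (hyU : y ∈ A.U) (hz : z ∈ W)
    (hyz : y ⤳ z) (hzU : z ∈ A.U) :
    ∃ u, RUnit hW hy u ∧ lam A hW he hη₀ (genFrame_of_mem hyU) hy =
      u * lam A hW he hη₀ (genFrame_of_mem hzU) hz :=
  exists_rUnit_mul A hW he hη₀ (isFrame_fr _) (isFrame_fr _) hy (mem_frOpen _ hyU)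
    (hyz.mem_open (frOpen _).2 (mem_frOpen _ hzU))

include hη in
theorem genFrame {p : X} (hp : p ∈ W) : GenFrame A p := by
  by_cases h : p ∈ A.U
  · exact genFrame_of_mem h
  · exact genFrame_of_notMem hW hη hp h

/-- `c` is a unit multiple of the chosen frame's coordinate at `p`. -/
def GoodAt (c : Kη hW) {p : X} (hp : p ∈ W) : Prop :=
  ∃ u, RUnit hW hp u ∧ c = u * lam A hW he hη₀ (genFrame A hW hη hp) hp

include hufd in
/-- A generator near a point outside `U`: coordinates of the chosen frames at generisations. -/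
theorem exists_goodAt (hU₀ : U₀ ≤ A.U) {x : X} (hx : x ∈ W) (hxU : x ∉ A.U) :
    ∃ g : Kη hW, g ≠ 0 ∧ ∀ (p : X) (hp : p ⤳ x),
      (p ∈ A.U ∨ ringKrullDim (X.presheaf.stalk p) ≤ 1) →
        GoodAt A hW hη he hη₀ g (mem_of_specializes hx hp) := by
  classical
  haveI := isDomain_stalk hW hx
  haveI := hufd x hxU
  letI := (sp hW hx).toAlgebra
  letI := fieldKη hW
  haveI := isFractionRing_stalk hW hx
  obtain ⟨j, hjle, hjη⟩ := hW.exists_basicOpen_le ⟨eta hW, show eta hW ∈ U₀ from hη₀⟩ (eta_mem hW)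
  have hj0 : X.presheaf.germ W x hx j ≠ 0 := fun h => by
    have h1 := congrArg (sp hW hx) h
    rw [sp_germ, map_zero] at h1
    have h2 := (X.mem_basicOpen j (eta hW) (eta_mem hW)).1 hjη
    exact not_isUnit_zero (h1 ▸ h2)
  let pt : ∀ π : X.presheaf.stalk x, Prime π → PrimeSpectrum (X.presheaf.stalk x) := fun π hπ =>
    ⟨Ideal.span {π}, (Ideal.span_singleton_prime hπ.ne_zero).2 hπ⟩
  have hpt : ∀ q : PrimeSpectrum (X.presheaf.stalk x), X.fromSpecStalk x q ⤳ x := fun q => by
    have : X.fromSpecStalk x q ∈ Set.range (X.fromSpecStalk x) := ⟨q, rfl⟩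
    rwa [Scheme.range_fromSpecStalk] at this
  let lamR : ∀ π : X.presheaf.stalk x, Prime π → Kη hW := fun π hπ =>
    lam A hW he hη₀ (genFrame A hW hη (mem_of_specializes hx (hpt (pt π hπ))))
      (mem_of_specializes hx (hpt (pt π hπ)))
  have toP : ∀ (π : X.presheaf.stalk x) (hπ : Prime π) (c : Kη hW),
      RUnit hW (mem_of_specializes hx (hpt (pt π hπ))) c → UnitP (Ideal.span {π}) c := by
    intro π hπ c hc
    obtain ⟨d, hd, hcd⟩ := hc.exists_mul_eq_one
    refine ⟨regP_of_reg hW hx (pt π hπ) (hpt _) hc.reg, ?_⟩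
    rw [inv_eq_of_mul_eq_one_right hcd]
    exact regP_of_reg hW hx (pt π hπ) (hpt _) hd.reg
  have fromP : ∀ (π : X.presheaf.stalk x) (hπ : Prime π) (c : Kη hW), UnitP (Ideal.span {π}) c →
      c ≠ 0 → RUnit hW (mem_of_specializes hx (hpt (pt π hπ))) c := by
    intro π hπ c hc hc0
    have key : ∀ d : Kη hW, RegP (Ideal.span {π}) d →
        Reg hW (mem_of_specializes hx (hpt (pt π hπ))) d := by
      rintro d ⟨a, b, hb, hab⟩
      refine reg_of_fraction hW hx (hpt _) ?_ hab
      change b ∉ (pt π hπ).asIdeal at hb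
      rw [← comap_maximalIdeal_stalkSpecializes (pt π hπ) (hpt _), Ideal.mem_comap,
        IsLocalRing.mem_maximalIdeal, mem_nonunits_iff, not_not] at hb
      exact hb
    exact (rUnit_iff hW _).2 ⟨c⁻¹, key c hc.1, key _ hc.2, mul_inv_cancel₀ hc0⟩
  obtain ⟨g, hg0, hg⟩ := exists_unitP_div (K := Kη hW) lamR (fun π hπ => lam_ne_zero A hW he hη₀ _ _)
    hj0 (fun π hπ hdvd => by
      refine toP π hπ _ ?_
      have hyU₀ : X.fromSpecStalk x (pt π hπ) ∈ U₀ := hjle ((X.mem_basicOpen j _
        (mem_of_specializes hx (hpt _))).2 (by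
          by_contra hnu
          refine hdvd (Ideal.mem_span_singleton.1 ?_)
          show X.presheaf.germ W x hx j ∈ (pt π hπ).asIdeal
          rw [← comap_maximalIdeal_stalkSpecializes (pt π hπ) (hpt _), Ideal.mem_comap,
            TopCat.Presheaf.germ_stalkSpecializes_apply]
          exact (IsLocalRing.mem_maximalIdeal _).2 hnu))
      have hyf : X.fromSpecStalk x (pt π hπ) ∈
          frOpen (genFrame A hW hη (mem_of_specializes hx (hpt (pt π hπ)))) :=
        mem_frOpen _ (hU₀ hyU₀)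
      obtain ⟨u, hu, hu'⟩ := exists_rUnit_mul A hW he hη₀ (isFrame_fr _) he
        (mem_of_specializes hx (hpt (pt π hπ))) hyf hyU₀
      rw [kap_self, mul_one] at hu'
      rw [show lamR π hπ = u from hu']
      exact hu)
    (fun π π' hπ hπ' hass => by
      have he' : X.fromSpecStalk x (pt π hπ) = X.fromSpecStalk x (pt π' hπ') :=
        congrArg (X.fromSpecStalk x) (PrimeSpectrum.ext (Ideal.span_singleton_eq_span_singleton.2 hass))
      rw [show lamR π' hπ' = lamR π hπ from
        (lam_congr A hW he hη₀ he' _ _ _ _).symm,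
        div_self (show lamR π hπ ≠ 0 from lam_ne_zero A hW he hη₀ _ _)]
      exact unitP_one ((Ideal.span_singleton_prime hπ.ne_zero).2 hπ).ne_top)
  refine ⟨g, hg0, fun p hp hcase => ?_⟩
  obtain ⟨P, rfl⟩ : p ∈ Set.range (X.fromSpecStalk x) := by rw [Scheme.range_fromSpecStalk]; exact hp
  set l := lam A hW he hη₀ (genFrame A hW hη (mem_of_specializes hx hp)) (mem_of_specializes hx hp)
  have hl0 : l ≠ 0 := lam_ne_zero A hW he hη₀ _ _
  refine ⟨g / l, ?_, (div_mul_cancel₀ g hl0).symm⟩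
  -- at each height one point below `p`
  have hbelow : ∀ (π : X.presheaf.stalk x) (hπ : Prime π), π ∈ P.asIdeal →
      RUnit hW (mem_of_specializes hx (hpt (pt π hπ))) (g / l) := by
    intro π hπ hπP
    have h1 := fromP π hπ _ (hg π hπ) (div_ne_zero hg0 (lam_ne_zero A hW he hη₀ _ _))
    have hsp : X.fromSpecStalk x (pt π hπ) ⤳ X.fromSpecStalk x P :=
      ((PrimeSpectrum.le_iff_specializes (pt π hπ) P).1
        ((Ideal.span_singleton_le_iff_mem _).2 hπP)).map (X.fromSpecStalk x).continuous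
    rcases hcase with hpU | hd
    · have hyU : X.fromSpecStalk x (pt π hπ) ∈ A.U := hsp.mem_open A.U.2 hpU
      obtain ⟨u, hu, hu'⟩ := exists_rUnit_lam A hW he hη₀ (mem_of_specializes hx (hpt (pt π hπ))) hyU
        (mem_of_specializes hx hp) hsp hpU
      have := h1.mul hW hu
      convert this using 1
      rw [show lamR π hπ = u * l from hu']
      have hu0 : u ≠ 0 := fun h0 => lam_ne_zero A hW he hη₀ (genFrame_of_mem hyU)
        (mem_of_specializes hx (hpt (pt π hπ))) (by rw [hu', h0, zero_mul])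
      field_simp
    · have hne : X.fromSpecStalk x (pt π hπ) ≠ eta hW := by
        rw [← exists_bot hW hx]
        intro h
        have := congrArg PrimeSpectrum.asIdeal ((X.fromSpecStalk x).isEmbedding.injective h)
        exact hπ.ne_zero (Ideal.span_singleton_eq_bot.1 this)
      have heq := eq_of_dim_le_one hW (mem_of_specializes hx hp) hd hsp hne
      rw [show lamR π hπ = l from lam_congr A hW he hη₀ heq _ _ _ _] at h1
      exact h1
  have hreg1 : Reg hW (mem_of_specializes hx hp) (g / l) :=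
    reg_of_prime hW hx P hp fun π hπ q hq hπP hq' => by
      obtain rfl : q = pt π hπ := PrimeSpectrum.ext hq
      exact (hbelow π hπ hπP).reg
  have hreg2 : Reg hW (mem_of_specializes hx hp) (g / l)⁻¹ :=
    reg_of_prime hW hx P hp fun π hπ q hq hπP hq' => by
      obtain rfl : q = pt π hπ := PrimeSpectrum.ext hq
      obtain ⟨d, hd, hcd⟩ := (hbelow π hπ hπP).exists_mul_eq_one
      rw [inv_eq_of_mul_eq_one_right hcd]
      exact hd.reg
  exact (rUnit_iff hW _).2 ⟨_, hreg1, hreg2, mul_inv_cancel₀ (div_ne_zero hg0 hl0)⟩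

end Local

end Groth.Agent.Curves2.Ufd
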